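import Mathlib
import Groth.Prelude.Def_Found

/-!
Basic API for the N-1 / N-2 conditions: finiteness of integral closures in field extensions,
reduction to purely inseparable extensions, the separable case.
-/

namespace Groth.Agent.NagataLib

open Polynomial IntermediateField

universe u

/-- Inside a finite module over a Noetherian ring. -/
theorem finite_of_injective_linearMap {A M N : Type*} [CommRing A] [IsNoetherianRing A]
    [AddCommGroup M] [Module A M] [AddCommGroup N] [Module A N] [Module.Finite A N]
    (f : M →ₗ[A] N) (hf : Function.Injective f) : Module.Finite A M :=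
  Module.Finite.of_injective f hf

/-- If a ring embeds in another one whose integral closure is finite, so is its own. -/
theorem finite_integralClosure_of_algHom {A L F : Type*} [CommRing A] [IsNoetherianRing A]
    [CommRing L] [Algebra A L] [CommRing F] [Algebra A F] (j : L →ₐ[A] F)
    (hj : Function.Injective j) (h : Module.Finite A (integralClosure A F)) :
    Module.Finite A (integralClosure A L) := by
  let f : integralClosure A L →ₗ[A] integralClosure A F :=
    { toFun := fun x => ⟨j x.1, IsIntegral.map j x.2⟩
      map_add' := fun x y => Subtype.ext (by simp)
      map_smul' := fun a x => Subtype.ext (by simp) }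
  refine finite_of_injective_linearMap f fun x y e => Subtype.ext (hj ?_)
  exact congrArg Subtype.val e

/-- If `A → A'` is finite and the integral closure of `A'` in `F` is finite over `A'`, the
integral closure of `A` in `F` is finite over `A`. -/
theorem finite_integralClosure_of_tower {A A' F : Type*} [CommRing A] [CommRing A'] [CommRing F]
    [Algebra A A'] [Algebra A F] [Algebra A' F] [IsScalarTower A A' F] [Module.Finite A A']
    (h : Module.Finite A' (integralClosure A' F)) : Module.Finite A (integralClosure A F) := by
  have : Module.Finite A (integralClosure A' F) := Module.Finite.trans A' _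
  let e : integralClosure A' F →ₗ[A] integralClosure A F :=
    { toFun := fun x => ⟨x.1, isIntegral_trans x.1 x.2⟩
      map_add' := fun x y => rfl
      map_smul' := fun a x => rfl }
  exact Module.Finite.of_surjective e fun x => ⟨⟨x.1, IsIntegral.tower_top x.2⟩, rfl⟩

/-- Separable extensions of an integrally closed Noetherian domain. -/
theorem finite_integralClosure_of_separable {A : Type*} [CommRing A] [IsDomain A]
    [IsNoetherianRing A] [IsIntegrallyClosed A] (K L : Type*) [Field K] [Algebra A K]
    [IsFractionRing A K] [Field L] [Algebra A L] [Algebra K L] [IsScalarTower A K L]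
    [FiniteDimensional K L] [Algebra.IsSeparable K L] :
    Module.Finite A (integralClosure A L) :=
  IsIntegralClosure.finite A K L (integralClosure A L)

/-- Finite integral closure propagates along a finite separable extension. -/
theorem finite_integralClosure_of_finite_of_separable {A : Type*} [CommRing A] [IsDomain A]
    [IsNoetherianRing A] (K P N : Type*) [Field K] [Algebra A K] [IsFractionRing A K] [Field P]
    [Algebra A P] [Algebra K P] [IsScalarTower A K P] [FiniteDimensional K P] [Field N]
    [Algebra A N] [Algebra P N] [IsScalarTower A P N] [FiniteDimensional P N]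
    [Algebra.IsSeparable P N] (h : Module.Finite A (integralClosure A P)) :
    Module.Finite A (integralClosure A N) := by
  let A' := integralClosure A P
  have : IsNoetherianRing A' := IsNoetherianRing.of_finite A A'
  have : IsIntegrallyClosed A' := integralClosure.isIntegrallyClosedOfFiniteExtension K
  have : IsFractionRing A' P := integralClosure.isFractionRing_of_finite_extension K P
  have : IsScalarTower A' P N := IsScalarTower.of_algebraMap_eq fun x => rfl
  have : IsScalarTower A A' N := IsScalarTower.of_algebraMap_eq fun x =>
    IsScalarTower.algebraMap_apply A P N x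
  exact finite_integralClosure_of_tower (finite_integralClosure_of_separable (A := A') P N)

/-- The fixed field of all automorphisms of a normal extension is purely inseparable. -/
theorem isPurelyInseparable_fixedField (K N : Type*) [Field K] [Field N] [Algebra K N]
    [Normal K N] :
    IsPurelyInseparable K (fixedField (⊤ : Subgroup (N ≃ₐ[K] N))) := by
  classical
  rw [isPurelyInseparable_iff_natSepDegree_eq_one]
  let P := fixedField (⊤ : Subgroup (N ≃ₐ[K] N))
  intro (x : P)
  have hmin : minpoly K x = minpoly K (x : N) :=
    (minpoly.algHom_eq P.val P.val.injective x).symm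
  rw [hmin]
  have hsp : ((minpoly K (x : N)).map (algebraMap K N)).Splits := Normal.splits inferInstance _
  rw [natSepDegree_eq_of_splits _ hsp, Finset.card_eq_one]
  refine ⟨(x : N), ?_⟩
  ext y
  rw [Multiset.mem_toFinset, Finset.mem_singleton, mem_aroots]
  have hint : IsIntegral K (x : N) := Normal.isIntegral inferInstance _
  refine ⟨fun hy => ?_, fun hy => by rw [hy]; exact ⟨minpoly.ne_zero hint, minpoly.aeval _ _⟩⟩
  obtain ⟨σ, hσ⟩ := minpoly.exists_algEquiv_of_root' hint.isAlgebraic hy.2
  rw [← hσ]
  exact x.2 ⟨σ, trivial⟩

/-- **Reduction to purely inseparable extensions.** If the integral closure of a Noetherian domain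
is finite in every finite purely inseparable extension of a fraction field `K`, it is finite in
every finite extension of `K`. -/
theorem finite_integralClosure_of_forall_purelyInseparable {A : Type u} [CommRing A] [IsDomain A]
    [IsNoetherianRing A] (K : Type u) [Field K] [Algebra A K] [IsFractionRing A K]
    (h : ∀ (P : Type u) [Field P] [Algebra A P] [Algebra K P] [IsScalarTower A K P],
      FiniteDimensional K P → IsPurelyInseparable K P → Module.Finite A (integralClosure A P))
    (L : Type u) [Field L] [Algebra A L] [Algebra K L] [IsScalarTower A K L]
    [FiniteDimensional K L] : Module.Finite A (integralClosure A L) := by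
  let N := IntermediateField.normalClosure K L (AlgebraicClosure L)
  have : Normal K (AlgebraicClosure L) := by
    have : Algebra.IsAlgebraic K (AlgebraicClosure L) :=
      Algebra.IsAlgebraic.trans K L (AlgebraicClosure L)
    have : IsAlgClosure K (AlgebraicClosure L) := ⟨inferInstance, inferInstance⟩
    exact IsAlgClosure.normal K _
  have : IsScalarTower A K N := inferInstance
  let j : L →ₐ[A] N := (IsScalarTower.toAlgHom K L N).restrictScalars A
  refine finite_integralClosure_of_algHom j j.injective ?_
  let P := fixedField (⊤ : Subgroup (N ≃ₐ[K] N))
  have hPI : IsPurelyInseparable K P := isPurelyInseparable_fixedField K N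
  have hA' : Module.Finite A (integralClosure A P) := h P inferInstance hPI
  have : IsScalarTower A P N := IsScalarTower.of_algebraMap_eq fun x => rfl
  have : IsGalois P N := IsGalois.of_fixed_field N (⊤ : Subgroup (N ≃ₐ[K] N))
  have : FiniteDimensional P N := Module.Finite.right K P N
  exact finite_integralClosure_of_finite_of_separable K P N hA'

/-- `IsN2` for an arbitrary fraction field. -/
theorem finite_integralClosure_of_isN2 {A : Type u} [CommRing A] [IsDomain A] (hA : CAlg.IsN2 A)
    (K : Type*) (L : Type u) [Field K] [Algebra A K] [IsFractionRing A K] [Field L]
    [Algebra A L] [Algebra K L] [IsScalarTower A K L] [FiniteDimensional K L] :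
    Module.Finite A (integralClosure A L) := by
  have : FaithfulSMul A L := (faithfulSMul_iff_algebraMap_injective A L).mpr (by
    rw [IsScalarTower.algebraMap_eq A K L]
    exact (algebraMap K L).injective.comp (IsFractionRing.injective A K))
  let := FractionRing.liftAlgebra A L
  have : FiniteDimensional (FractionRing A) L := by
    refine Module.Finite.of_equiv_equiv (A₁ := K) (B₁ := L)
      (FractionRing.algEquiv A K).symm.toRingEquiv (RingEquiv.refl L) ?_
    refine IsLocalization.ringHom_ext (nonZeroDivisors A) ?_
    ext a
    simp [← IsScalarTower.algebraMap_apply]
  exact hA L inferInstance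

/-- `IsN2` can be checked on a fixed fraction field and purely inseparable extensions of it. -/
theorem isN2_of_forall_purelyInseparable {A : Type u} [CommRing A] [IsDomain A]
    [IsNoetherianRing A]
    (h : ∀ (P : Type u) [Field P] [Algebra A P] [Algebra (FractionRing A) P]
      [IsScalarTower A (FractionRing A) P], FiniteDimensional (FractionRing A) P →
      IsPurelyInseparable (FractionRing A) P → Module.Finite A (integralClosure A P)) :
    CAlg.IsN2 A := fun L _ _ _ _ _ =>
  finite_integralClosure_of_forall_purelyInseparable (FractionRing A) h L

/-- `IsN1` for an arbitrary fraction field. -/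
theorem isN1_iff {A : Type u} [CommRing A] [IsDomain A] (K : Type*) [Field K] [Algebra A K]
    [IsFractionRing A K] : CAlg.IsN1 A ↔ Module.Finite A (integralClosure A K) := by
  let e : integralClosure A (FractionRing A) ≃ₐ[A] integralClosure A K :=
    (FractionRing.algEquiv A K).mapIntegralClosure
  exact ⟨fun (h : Module.Finite A _) => Module.Finite.equiv e.toLinearEquiv,
    fun h => Module.Finite.equiv e.toLinearEquiv.symm⟩

/-- N-2 implies N-1. -/
theorem isN1_of_isN2 {A : Type u} [CommRing A] [IsDomain A] (hA : CAlg.IsN2 A) : CAlg.IsN1 A :=
  hA (FractionRing A) inferInstance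

/-- An N-1 Noetherian domain has finite integral closure in separable extensions. -/
theorem finite_integralClosure_of_isN1_separable {A : Type u} [CommRing A] [IsDomain A]
    [IsNoetherianRing A] (hA : CAlg.IsN1 A) (K : Type*) (L : Type*) [Field K] [Algebra A K]
    [IsFractionRing A K] [Field L] [Algebra A L] [Algebra K L] [IsScalarTower A K L]
    [FiniteDimensional K L] [Algebra.IsSeparable K L] :
    Module.Finite A (integralClosure A L) := by
  exact finite_integralClosure_of_finite_of_separable K K L ((isN1_iff K).1 hA)

/-- A field is N-2. -/
theorem isN2_of_field (F : Type u) [Field F] : CAlg.IsN2 F := by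
  intro L _ _ _ _ hL
  have : Module.Finite F L := by
    refine Module.Finite.of_equiv_equiv (A₁ := FractionRing F) (B₁ := L)
      (FractionRing.algEquiv F F).toRingEquiv (RingEquiv.refl L) ?_
    refine IsLocalization.ringHom_ext (nonZeroDivisors F) ?_
    ext a
    simp [← IsScalarTower.algebraMap_apply]
  exact Module.Finite.of_injective (integralClosure F L).val.toLinearMap Subtype.val_injective

/-- A domain finite over an N-2 domain is N-2. -/
theorem isN2_of_finite {A B : Type u} [CommRing A] [IsDomain A] [CommRing B] [IsDomain B]
    [Algebra A B] (hAB : Function.Injective (algebraMap A B)) [Module.Finite A B]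
    (hA : CAlg.IsN2 A) : CAlg.IsN2 B := by
  have : FaithfulSMul A B := (faithfulSMul_iff_algebraMap_injective A B).mpr hAB
  intro L _ _ _ _ hL
  let K := FractionRing A
  let M := FractionRing B
  let : Algebra K M := FractionRing.liftAlgebra A M
  have : FiniteDimensional K M := by
    have : Algebra.IsAlgebraic A B := Algebra.IsIntegral.isAlgebraic
    exact Module.Finite.of_isLocalization A B (nonZeroDivisors A)
  let : Algebra A L := ((algebraMap B L).comp (algebraMap A B)).toAlgebra
  have : IsScalarTower A B L := IsScalarTower.of_algebraMap_eq fun x => rfl
  let : Algebra K L := ((algebraMap M L).comp (algebraMap K M)).toAlgebra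
  have : IsScalarTower K M L := IsScalarTower.of_algebraMap_eq fun x => rfl
  have : IsScalarTower A K L := IsScalarTower.of_algebraMap_eq fun x => by
    rw [RingHom.algebraMap_toAlgebra, RingHom.algebraMap_toAlgebra, RingHom.comp_apply,
      RingHom.comp_apply, ← IsScalarTower.algebraMap_apply A K M,
      IsScalarTower.algebraMap_apply A B M, ← IsScalarTower.algebraMap_apply B M L]
  have : FiniteDimensional K L := Module.Finite.trans M L
  have h2 := finite_integralClosure_of_isN2 hA K L
  let e : integralClosure A L →ₗ[A] integralClosure B L :=
    { toFun := fun x => ⟨x.1, IsIntegral.tower_top x.2⟩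
      map_add' := fun x y => rfl
      map_smul' := fun a x => rfl }
  have : Module.Finite A (integralClosure B L) :=
    Module.Finite.of_surjective e fun x => ⟨⟨x.1, isIntegral_trans x.1 x.2⟩, rfl⟩
  exact Module.Finite.of_restrictScalars_finite A B _

end Groth.Agent.NagataLib
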