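import Mathlib
import Groth.Prelude.Def_Found
import Groth.Agent.NagataLib.Basic

/-!
N-1 and N-2 under localisation, and locality for covers by principal opens.
-/

namespace Groth.Agent.NagataLib

universe u

/-- Finiteness of integral closures passes to localisations of the base. -/
theorem finite_integralClosure_of_isLocalization {R S L : Type*} [CommRing R] [CommRing S]
    [CommRing L] [Algebra R S] [Algebra R L] [Algebra S L] [IsScalarTower R S L] (M : Submonoid R)
    [IsLocalization M S] (h : Module.Finite R (integralClosure R L)) :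
    Module.Finite S (integralClosure S L) := by
  obtain ⟨T, hT⟩ := h.fg_top
  let f : integralClosure R L →ₗ[R] integralClosure S L :=
    { toFun := fun x => ⟨x.1, IsIntegral.tower_top x.2⟩
      map_add' := fun x y => rfl
      map_smul' := fun a x => rfl }
  classical
  refine ⟨⟨T.image f, eq_top_iff.2 fun y _ => ?_⟩⟩
  obtain ⟨m, hm⟩ := IsIntegral.exists_multiple_integral_of_isLocalization M (y : L) y.2
  let x : integralClosure R L := ⟨m • (y : L), hm⟩
  have hfx : f x ∈ Submodule.span S (f '' T) := by
    have h1 : f x ∈ (Submodule.span R (T : Set (integralClosure R L))).map f :=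
      ⟨x, by rw [hT]; trivial, rfl⟩
    rw [Submodule.map_span] at h1
    exact Submodule.span_le_restrictScalars R S _ h1
  obtain ⟨v, hv⟩ := IsLocalization.map_units S m
  have hy : y = (↑v⁻¹ : S) • f x := by
    apply Subtype.ext
    change (y : L) = (↑v⁻¹ : S) • ((m : R) • (y : L))
    rw [← IsScalarTower.algebraMap_smul S (m : R) (y : L), ← hv, smul_smul, Units.inv_mul, one_smul]
  rw [Finset.coe_image, hy]
  exact Submodule.smul_mem _ _ hfx

/-- Finiteness of integral closures is local for covers by principal opens. -/
theorem finite_integralClosure_of_span {R L : Type*} [CommRing R] [CommRing L] [Algebra R L]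
    {ι : Type*} [Finite ι] (f : ι → R) (hf : Ideal.span (Set.range f) = ⊤)
    (Rf : ι → Type*) [∀ i, CommRing (Rf i)] [∀ i, Algebra R (Rf i)]
    [∀ i, IsLocalization.Away (f i) (Rf i)] [∀ i, Algebra (Rf i) L]
    [∀ i, IsScalarTower R (Rf i) L] (h : ∀ i, Module.Finite (Rf i) (integralClosure (Rf i) L)) :
    Module.Finite R (integralClosure R L) := by
  classical
  cases nonempty_fintype ι
  choose T hT using fun i => (h i).fg_top
  have hmul : ∀ i, ∀ t : integralClosure (Rf i) L, ∃ n : ℕ, IsIntegral R (f i ^ n • (t : L)) := by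
    intro i t
    obtain ⟨⟨m, n, hn⟩, hm⟩ := IsIntegral.exists_multiple_integral_of_isLocalization
      (Submonoid.powers (f i)) (t : L) t.2
    exact ⟨n, by simpa only [hn, Submonoid.smul_def] using hm⟩
  choose n hn using hmul
  let G : Finset (integralClosure R L) := Finset.univ.biUnion fun i =>
    (T i).image fun t => ⟨f i ^ n i t • (t : L), hn i t⟩
  refine ⟨⟨G, eq_top_iff.2 fun x _ => ?_⟩⟩
  refine Submodule.mem_of_span_eq_top_of_smul_pow_mem _ (Set.range f) hf x ?_
  rintro ⟨_, i, rfl⟩
  let N := (Submodule.span R (G : Set (integralClosure R L))).map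
    (integralClosure R L).val.toLinearMap
  suffices H : ∀ y : integralClosure (Rf i) L, ∃ k : ℕ, f i ^ k • (y : L) ∈ N by
    obtain ⟨k, z, hz, hzx⟩ := H ⟨x.1, IsIntegral.tower_top x.2⟩
    exact ⟨k, by rwa [show f i ^ k • x = z from Subtype.ext hzx.symm]⟩
  intro y
  have hy : y ∈ Submodule.span (Rf i) (T i : Set (integralClosure (Rf i) L)) := by
    rw [hT i]; trivial
  induction hy using Submodule.span_induction with
  | mem t ht =>
    refine ⟨n i t, ⟨_, hn i t⟩, Submodule.subset_span ?_, rfl⟩
    exact Finset.mem_biUnion.2 ⟨i, Finset.mem_univ _, Finset.mem_image.2 ⟨t, ht, rfl⟩⟩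
  | zero => exact ⟨0, by simp⟩
  | add a b _ _ ha hb =>
    obtain ⟨k, hk⟩ := ha
    obtain ⟨l, hl⟩ := hb
    refine ⟨k + l, ?_⟩
    have h1 : f i ^ (k + l) • ((a + b : integralClosure (Rf i) L) : L)
        = f i ^ l • (f i ^ k • (a : L)) + f i ^ k • (f i ^ l • (b : L)) := by
      rw [Subalgebra.coe_add, smul_add, smul_smul, smul_smul, ← pow_add, ← pow_add, add_comm l k]
    rw [h1]
    exact N.add_mem (N.smul_mem _ hk) (N.smul_mem _ hl)
  | smul s a _ ha =>
    obtain ⟨k, hk⟩ := ha
    obtain ⟨⟨r, m, l, hl⟩, hs⟩ := IsLocalization.surj (Submonoid.powers (f i)) s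
    refine ⟨l + k, ?_⟩
    have h1 : f i ^ (l + k) • ((s • a : integralClosure (Rf i) L) : L)
        = r • (f i ^ k • (a : L)) := by
      rw [Subalgebra.coe_smul, ← IsScalarTower.algebraMap_smul (Rf i) (f i ^ (l + k)) (s • (a : L)),
        ← IsScalarTower.algebraMap_smul (Rf i) r, ← IsScalarTower.algebraMap_smul (Rf i) (f i ^ k),
        smul_smul, smul_smul, ← hs, pow_add, map_mul]
      congr 1
      simp only [← hl]
      ring
    rw [h1]
    exact N.smul_mem _ hk

section domain

variable {R : Type u} [CommRing R] [IsDomain R]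

theorem le_nonZeroDivisors_of_isDomain (M : Submonoid R) (S : Type*) [CommRing S] [Nontrivial S]
    [Algebra R S] [IsLocalization M S] : M ≤ nonZeroDivisors R := fun m hm =>
  mem_nonZeroDivisors_of_ne_zero fun h0 => by
    have := IsLocalization.map_units S ⟨m, hm⟩
    simp [h0] at this

/-- A fraction field of a localisation is a fraction field. -/
theorem isFractionRing_of_localization (M : Submonoid R) (S K : Type*) [CommRing S] [IsDomain S]
    [Algebra R S] [IsLocalization M S] [Field K] [Algebra S K] [IsFractionRing S K] [Algebra R K]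
    [IsScalarTower R S K] : IsFractionRing R K := by
  have hM := le_nonZeroDivisors_of_isDomain M S
  have inj : Function.Injective (algebraMap R K) := by
    rw [IsScalarTower.algebraMap_eq R S K]
    exact (IsFractionRing.injective S K).comp (IsLocalization.injective S hM)
  have : FaithfulSMul R K := (faithfulSMul_iff_algebraMap_injective R K).mpr inj
  refine IsFractionRing.of_field R K fun z => ?_
  obtain ⟨s, t, ht, rfl⟩ := IsFractionRing.div_surjective (A := S) z
  obtain ⟨⟨a, m⟩, ha⟩ := IsLocalization.surj M s
  obtain ⟨⟨b, n⟩, hb⟩ := IsLocalization.surj M t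
  refine ⟨a * n, b * m, ?_⟩
  have hm : algebraMap R K (m : R) ≠ 0 := fun h => nonZeroDivisors.ne_zero (hM m.2)
    (inj (h.trans (map_zero _).symm))
  have hn : algebraMap R K (n : R) ≠ 0 := fun h => nonZeroDivisors.ne_zero (hM n.2)
    (inj (h.trans (map_zero _).symm))
  have htK : algebraMap S K t ≠ 0 := IsFractionRing.to_map_ne_zero_of_mem_nonZeroDivisors ht
  replace ha := congrArg (algebraMap S K) ha
  replace hb := congrArg (algebraMap S K) hb
  rw [map_mul, ← IsScalarTower.algebraMap_apply, ← IsScalarTower.algebraMap_apply] at ha hb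
  dsimp only at ha hb
  rw [map_mul, map_mul, ← ha, ← hb]
  field_simp

/-- A localisation of an N-2 domain is N-2. -/
theorem isN2_of_isLocalization (M : Submonoid R) (S : Type u) [CommRing S] [IsDomain S]
    [Algebra R S] [IsLocalization M S] (h : CAlg.IsN2 R) : CAlg.IsN2 S := by
  intro L _ _ _ _ hL
  let K := FractionRing S
  let : Algebra R L := ((algebraMap S L).comp (algebraMap R S)).toAlgebra
  have : IsScalarTower R S L := IsScalarTower.of_algebraMap_eq fun x => rfl
  have : IsFractionRing R K := isFractionRing_of_localization M S K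
  have : IsScalarTower R K L := IsScalarTower.of_algebraMap_eq fun x => by
    rw [IsScalarTower.algebraMap_apply R S K, ← IsScalarTower.algebraMap_apply S K L]; rfl
  exact finite_integralClosure_of_isLocalization M (finite_integralClosure_of_isN2 h K L)

/-- A localisation of an N-1 domain is N-1. -/
theorem isN1_of_isLocalization (M : Submonoid R) (S : Type u) [CommRing S] [IsDomain S]
    [Algebra R S] [IsLocalization M S] (h : CAlg.IsN1 R) : CAlg.IsN1 S := by
  have : IsFractionRing R (FractionRing S) := isFractionRing_of_localization M S _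
  exact finite_integralClosure_of_isLocalization M ((isN1_iff _).1 h)

/-- N-2 is preserved by ring isomorphisms. -/
theorem isN2_of_ringEquiv {S : Type u} [CommRing S] [IsDomain S] (e : R ≃+* S)
    (h : CAlg.IsN2 R) : CAlg.IsN2 S := by
  let : Algebra R S := e.toRingHom.toAlgebra
  have : Module.Finite R S := Module.Finite.of_surjective (Algebra.linearMap R S) e.surjective
  exact isN2_of_finite e.injective h

variable {ι : Type*} [Finite ι] (f : ι → R) (hf : Ideal.span (Set.range f) = ⊤)
  (Rf : ι → Type u) [∀ i, CommRing (Rf i)] [∀ i, IsDomain (Rf i)] [∀ i, Algebra R (Rf i)]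
  [∀ i, IsLocalization.Away (f i) (Rf i)]
include hf

/-- N-1 is local. -/
theorem isN1_of_span (h : ∀ i, CAlg.IsN1 (Rf i)) : CAlg.IsN1 R := by
  let K := FractionRing R
  let A i : Algebra (Rf i) K :=
    IsLocalization.localizationAlgebraOfSubmonoidLe (Rf i) K _ (nonZeroDivisors R)
      (le_nonZeroDivisors_of_isDomain (Submonoid.powers (f i)) (Rf i))
  have ht : ∀ i, IsScalarTower R (Rf i) K := fun i =>
    IsLocalization.localization_isScalarTower_of_submonoid_le (Rf i) K _ (nonZeroDivisors R)
      (le_nonZeroDivisors_of_isDomain (Submonoid.powers (f i)) (Rf i))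
  refine finite_integralClosure_of_span (L := K) f hf Rf fun i => ?_
  have : IsFractionRing (Rf i) K :=
    IsFractionRing.isFractionRing_of_isDomain_of_isLocalization (Submonoid.powers (f i)) (Rf i) K
  exact (isN1_iff K).1 (h i)

/-- N-2 is local. -/
theorem isN2_of_span (h : ∀ i, CAlg.IsN2 (Rf i)) : CAlg.IsN2 R := by
  intro L _ _ _ _ hL
  let K := FractionRing R
  let A i : Algebra (Rf i) K :=
    IsLocalization.localizationAlgebraOfSubmonoidLe (Rf i) K _ (nonZeroDivisors R)
      (le_nonZeroDivisors_of_isDomain (Submonoid.powers (f i)) (Rf i))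
  have ht : ∀ i, IsScalarTower R (Rf i) K := fun i =>
    IsLocalization.localization_isScalarTower_of_submonoid_le (Rf i) K _ (nonZeroDivisors R)
      (le_nonZeroDivisors_of_isDomain (Submonoid.powers (f i)) (Rf i))
  let B i : Algebra (Rf i) L := ((algebraMap K L).comp (algebraMap (Rf i) K)).toAlgebra
  have ht' : ∀ i, IsScalarTower R (Rf i) L := fun i => IsScalarTower.of_algebraMap_eq fun x => by
    change _ = algebraMap K L (algebraMap (Rf i) K _)
    rw [← IsScalarTower.algebraMap_apply R (Rf i) K, ← IsScalarTower.algebraMap_apply R K L]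
  refine finite_integralClosure_of_span f hf Rf fun i => ?_
  have : IsFractionRing (Rf i) K :=
    IsFractionRing.isFractionRing_of_isDomain_of_isLocalization (Submonoid.powers (f i)) (Rf i) K
  have : IsScalarTower (Rf i) K L := IsScalarTower.of_algebraMap_eq fun x => rfl
  exact finite_integralClosure_of_isN2 (h i) K L

end domain

end Groth.Agent.NagataLib
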