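import Mathlib
import Groth.Prelude.Def_Found
import Groth.Agent.NagataLib.Localization

/-!
Nagata rings and universally Japanese rings: elementary permanence properties.
-/

namespace Groth.Agent.NagataLib

universe u

/-- For Noetherian domains of characteristic zero, N-1 implies N-2. -/
theorem isN2_of_isN1_of_charZero {R : Type u} [CommRing R] [IsDomain R] [IsNoetherianRing R]
    [CharZero R] (h : CAlg.IsN1 R) : CAlg.IsN2 R := by
  intro L _ _ _ _ hL
  have : CharZero (FractionRing R) :=
    charZero_of_injective_algebraMap (IsFractionRing.injective R (FractionRing R))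
  exact finite_integralClosure_of_isN1_separable h (FractionRing R) L

/-- A ring all of whose elements are fractions of elements of an N-2 domain quotient. -/
theorem isN2_of_fractions {A B : Type u} [CommRing A] [CommRing B] [IsDomain B] (φ : A →+* B)
    (hA : ∀ (p : Ideal A) [p.IsPrime], CAlg.IsN2 (A ⧸ p)) (M : Submonoid A)
    (hu : ∀ m ∈ M, IsUnit (φ m)) (hs : ∀ b : B, ∃ a : A, ∃ m ∈ M, b * φ m = φ a) :
    CAlg.IsN2 B := by
  let p := RingHom.ker φ
  have : p.IsPrime := RingHom.ker_isPrime φ
  let : Algebra (A ⧸ p) B := (RingHom.kerLift φ).toAlgebra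
  let N : Submonoid (A ⧸ p) := M.map (Ideal.Quotient.mk p)
  have : IsLocalization N B := by
    refine ⟨⟨?_, fun b => ?_, fun {x y} e => ⟨1, ?_⟩⟩⟩
    · rintro ⟨_, m, hm, rfl⟩
      exact hu m hm
    · obtain ⟨a, m, hm, e⟩ := hs b
      exact ⟨⟨Ideal.Quotient.mk p a, _, m, hm, rfl⟩, e⟩
    · rw [(RingHom.kerLift_injective φ) e]
  exact isN2_of_isLocalization N B (hA p)

/-- A quotient domain of a ring of fractions of a Nagata ring is N-2. -/
theorem isNagata_localization {A : Type u} [CommRing A] (hA : CAlg.IsNagata A) (S : Submonoid A)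
    (B : Type u) [CommRing B] [Algebra A B] [IsLocalization S B] : CAlg.IsNagata B := by
  have := hA.1
  refine ⟨IsLocalization.isNoetherianRing S B this, fun q _ => ?_⟩
  refine isN2_of_fractions ((Ideal.Quotient.mk q).comp (algebraMap A B)) hA.2 S
    (fun m hm => (IsLocalization.map_units B ⟨m, hm⟩).map (Ideal.Quotient.mk q)) fun b => ?_
  obtain ⟨b, rfl⟩ := Ideal.Quotient.mk_surjective b
  obtain ⟨⟨a, m⟩, e⟩ := IsLocalization.surj S b
  exact ⟨a, m, m.2, by rw [RingHom.comp_apply, RingHom.comp_apply, ← map_mul, e]⟩

/-- A domain which is essentially of finite type over a universally Japanese ring is N-2. -/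
theorem isN2_of_essFiniteType {R : Type u} [CommRing R] (hR : CAlg.IsUniversallyJapanese R)
    (S : Type u) [CommRing S] [IsDomain S] [Algebra R S] [Algebra.EssFiniteType R S] :
    CAlg.IsN2 S := by
  obtain ⟨S₀, M, hfin, hloc⟩ :=
    (Algebra.essFiniteType_iff_exists_subalgebra R S).1 inferInstance
  exact isN2_of_isLocalization M S (hR S₀ hfin)

/-- An algebra essentially of finite type over a universally Japanese ring is universally
Japanese. -/
theorem isUniversallyJapanese_of_essFiniteType {R : Type u} [CommRing R]
    (hR : CAlg.IsUniversallyJapanese R) (T : Type u) [CommRing T] [Algebra R T]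
    [Algebra.EssFiniteType R T] : CAlg.IsUniversallyJapanese T := by
  intro S _ _ _ hS
  let : Algebra R S := ((algebraMap T S).comp (algebraMap R T)).toAlgebra
  have : IsScalarTower R T S := IsScalarTower.of_algebraMap_eq fun x => rfl
  have : Algebra.EssFiniteType R S := Algebra.EssFiniteType.comp R T S
  exact isN2_of_essFiniteType hR S

/-- It suffices to test N-1 for domains of finite type. -/
theorem isUniversallyJapanese_of_forall_isN1 {R : Type u} [CommRing R]
    (h : ∀ (S : Type u) [CommRing S] [IsDomain S] [Algebra R S], Algebra.FiniteType R S →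
      CAlg.IsN1 S) : CAlg.IsUniversallyJapanese R := by
  intro S _ _ _ hS L _ _ _ _ hL
  classical
  let K := FractionRing S
  have : Algebra.IsAlgebraic S K := IsLocalization.isAlgebraic K (nonZeroDivisors S)
  have : Algebra.IsAlgebraic S L :=
    Algebra.IsAlgebraic.trans S K L
  let b := Module.finBasis K L
  obtain ⟨y, hy0, hy⟩ := Algebra.IsAlgebraic.exists_integral_multiples S (Finset.univ.image b)
  let x : Fin (Module.finrank K L) → L := fun i => y • b i
  have hx : ∀ i, IsIntegral S (x i) := fun i => hy _ (Finset.mem_image_of_mem b (Finset.mem_univ i))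
  let S' := Algebra.adjoin S (Set.range x)
  have hfin : Module.Finite S S' := Module.Finite.iff_fg.2 (fg_adjoin_of_finite (Set.finite_range x)
    (by rintro _ ⟨i, rfl⟩; exact hx i))
  let : Algebra R S' := ((algebraMap S S').comp (algebraMap R S)).toAlgebra
  have : IsScalarTower R S S' := IsScalarTower.of_algebraMap_eq fun x => rfl
  have hft : Algebra.FiniteType R S' := Algebra.FiniteType.trans hS inferInstance
  have : IsFractionRing S' L := by
    refine IsFractionRing.of_field S' L fun z => ?_
    obtain ⟨s, hs⟩ := IsLocalization.exist_integer_multiples_of_finite (nonZeroDivisors S)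
      (fun i => b.repr z i)
    choose r hr using hs
    have hsy : algebraMap S L ((s : S) * y) ≠ 0 := by
      rw [IsScalarTower.algebraMap_apply S K L]
      exact fun h0 => mul_ne_zero (nonZeroDivisors.ne_zero s.2) hy0
        (IsFractionRing.injective S K ((algebraMap K L).injective (by rw [h0, map_zero, map_zero])))
    refine ⟨⟨algebraMap S L ((s : S) * y) * z, ?_⟩, algebraMap S S' ((s : S) * y), ?_⟩
    · have e : algebraMap S L ((s : S) * y) * z = ∑ i, r i • x i := by
        conv_lhs => rw [← b.sum_repr z]
        rw [Finset.mul_sum]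
        refine Finset.sum_congr rfl fun i _ => ?_
        have hri : algebraMap S L (r i) = algebraMap S L (s : S) * algebraMap K L (b.repr z i) := by
          rw [IsScalarTower.algebraMap_apply S K L, hr i, Algebra.smul_def, map_mul,
            ← IsScalarTower.algebraMap_apply]
        simp only [x, Algebra.smul_def, hri, map_mul]
        ring
      rw [e]
      exact Subalgebra.sum_mem _ fun i _ =>
        Subalgebra.smul_mem _ (Algebra.subset_adjoin (Set.mem_range_self i)) _
    · change z = algebraMap S L ((s : S) * y) * z / algebraMap S L ((s : S) * y)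
      rw [mul_div_cancel_left₀ _ hsy]
  exact finite_integralClosure_of_tower ((isN1_iff L).1 (h S' hft))

/-- Being universally Japanese is local for covers by principal opens. -/
theorem isUniversallyJapanese_of_span {R : Type u} [CommRing R] {ι : Type*} [Finite ι]
    (f : ι → R) (hf : Ideal.span (Set.range f) = ⊤)
    (h : ∀ i, CAlg.IsUniversallyJapanese (Localization.Away (f i))) :
    CAlg.IsUniversallyJapanese R := by
  intro S _ _ _ hS
  let J := {i // algebraMap R S (f i) ≠ 0}
  let g : J → S := fun i => algebraMap R S (f i.1)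
  have hg : Ideal.span (Set.range g) = ⊤ := by
    have h1 : Ideal.span (Set.range fun i => algebraMap R S (f i)) = ⊤ := by
      rw [← Ideal.map_top (algebraMap R S), ← hf, Ideal.map_span, ← Set.range_comp]
      rfl
    rw [eq_top_iff, ← h1, Ideal.span_le]
    rintro _ ⟨i, rfl⟩
    by_cases hi : algebraMap R S (f i) = 0
    · simp [hi]
    · exact Ideal.subset_span ⟨⟨i, hi⟩, rfl⟩
  have hdom : ∀ i : J, IsDomain (Localization.Away (g i)) := fun i =>
    IsLocalization.isDomain_localization (powers_le_nonZeroDivisors_of_noZeroDivisors i.2)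
  refine isN2_of_span g hg (fun i => Localization.Away (g i)) fun i => ?_
  let φ : Localization.Away (f i.1) →+* Localization.Away (g i) :=
    IsLocalization.Away.map _ _ (algebraMap R S) (f i.1)
  let : Algebra (Localization.Away (f i.1)) (Localization.Away (g i)) := φ.toAlgebra
  have : IsScalarTower R (Localization.Away (f i.1)) (Localization.Away (g i)) :=
    IsScalarTower.of_algebraMap_eq fun x => by
      simp [φ, RingHom.algebraMap_toAlgebra, IsLocalization.Away.map, IsLocalization.map_eq,
        ← IsScalarTower.algebraMap_apply]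
  have : Algebra.FiniteType S (Localization.Away (g i)) :=
    IsLocalization.finiteType_of_monoid_fg (Submonoid.powers (g i)) _
  have : Algebra.FiniteType R (Localization.Away (g i)) := Algebra.FiniteType.trans hS this
  exact h i.1 _ (Algebra.FiniteType.of_restrictScalars_finiteType R _ _)

/-- Being Nagata is local for covers by principal opens. -/
theorem isNagata_of_span {R : Type u} [CommRing R] {ι : Type*} [Finite ι] (f : ι → R)
    (hf : Ideal.span (Set.range f) = ⊤) (h : ∀ i, CAlg.IsNagata (Localization.Away (f i))) :
    CAlg.IsNagata R := by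
  classical
  cases nonempty_fintype ι
  refine ⟨?_, fun p _ => ?_⟩
  · refine AlgebraicGeometry.isNoetherianRing_of_away (Finset.univ.image f) (by simpa using hf) ?_
    rintro ⟨s, hs⟩
    obtain ⟨i, -, rfl⟩ := Finset.mem_image.1 hs
    exact (h i).1
  let J := {i // f i ∉ p}
  let g : J → R ⧸ p := fun i => Ideal.Quotient.mk p (f i.1)
  have hg : Ideal.span (Set.range g) = ⊤ := by
    have h1 : Ideal.span (Set.range fun i => Ideal.Quotient.mk p (f i)) = ⊤ := by
      rw [← Ideal.map_top (Ideal.Quotient.mk p), ← hf, Ideal.map_span, ← Set.range_comp]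
      rfl
    rw [eq_top_iff, ← h1, Ideal.span_le]
    rintro _ ⟨i, rfl⟩
    by_cases hi : f i ∈ p
    · simp [Ideal.Quotient.eq_zero_iff_mem.2 hi]
    · exact Ideal.subset_span ⟨⟨i, hi⟩, rfl⟩
  have hdom : ∀ i : J, IsDomain (Localization.Away (g i)) := fun i =>
    IsLocalization.isDomain_localization (powers_le_nonZeroDivisors_of_noZeroDivisors
      fun h0 => i.2 (Ideal.Quotient.eq_zero_iff_mem.1 h0))
  refine isN2_of_span g hg (fun i => Localization.Away (g i)) fun i => ?_
  let φ : Localization.Away (f i.1) →+* Localization.Away (g i) :=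
    IsLocalization.Away.map _ _ (Ideal.Quotient.mk p) (f i.1)
  refine isN2_of_fractions φ (h i.1).2 ⊥ (fun m hm => by rw [Submonoid.mem_bot.1 hm]; simp)
    fun b => ?_
  obtain ⟨a, m, e⟩ := IsLocalization.exists_mk'_eq (Submonoid.powers (g i)) b
  obtain ⟨a, rfl⟩ := Ideal.Quotient.mk_surjective a
  obtain ⟨_, n, rfl⟩ := m
  refine ⟨IsLocalization.mk' _ a (⟨f i.1 ^ n, n, rfl⟩ : Submonoid.powers (f i.1)), 1,
    one_mem _, ?_⟩
  rw [map_one, mul_one, ← e]
  simp [φ, g, IsLocalization.Away.map, IsLocalization.map_mk']

end Groth.Agent.NagataLib
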