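import Mathlib

/-!
Local rings of an integral extension above one-dimensional local rings of a domain.
-/

namespace Groth.Agent.NagataLib

theorem ringKrullDim_atPrime_eq_one_of_isIntegral {A B : Type*} [CommRing A] [IsDomain A]
    [CommRing B] [IsDomain B] [Algebra A B] [Algebra.IsIntegral A B]
    (hinj : Function.Injective (algebraMap A B)) (p : Ideal A) [p.IsPrime] (q : Ideal B) [q.IsPrime]
    (hpq : q.comap (algebraMap A B) = p) (T S : Type*) [CommRing T] [Algebra A T]
    [IsLocalization.AtPrime T p] [CommRing S] [Algebra B S] [IsLocalization.AtPrime S q]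
    (hT : ringKrullDim T = 1) : ringKrullDim S = 1 := by
  have : IsDomain T := IsLocalization.isDomain_of_le_nonZeroDivisors T
    (p.primeCompl_le_nonZeroDivisors)
  have : IsDomain S := IsLocalization.isDomain_of_le_nonZeroDivisors S
    (q.primeCompl_le_nonZeroDivisors)
  have := IsLocalization.AtPrime.isLocalRing T p
  have := IsLocalization.AtPrime.isLocalRing S q
  have hT1 : Ring.KrullDimLE 1 T := Ring.krullDimLE_iff.2 (by simp [hT])
  have hp : p ≠ ⊥ := by
    rintro rfl
    have : ringKrullDim T = ((⊥ : Ideal A).height : WithBot ℕ∞) :=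
      IsLocalization.AtPrime.ringKrullDim_eq_height (⊥ : Ideal A) T
    rw [hT, Ideal.height_bot] at this
    exact one_ne_zero this
  have hq : q ≠ ⊥ := by
    rintro rfl
    exact hp (by rw [← hpq]; exact Ideal.comap_bot_of_injective _ hinj)
  -- nonzero primes below `q` are `q`
  have hmax : ∀ Q : Ideal B, Q.IsPrime → Q ≠ ⊥ → Q ≤ q → Q = q := by
    intro Q hQp hQ hQq
    have hP : Q.comap (algebraMap A B) ≠ ⊥ := fun h =>
      hQ (Ideal.eq_bot_of_comap_eq_bot h)
    have hPp : Q.comap (algebraMap A B) ≤ p := hpq ▸ Ideal.comap_mono hQq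
    let P := Q.comap (algebraMap A B)
    have hPprime : P.IsPrime := Ideal.IsPrime.comap _
    have hd : Disjoint (p.primeCompl : Set A) P :=
      Set.disjoint_left.2 fun a ha haP => ha (hPp haP)
    have hprime := IsLocalization.isPrime_of_isPrime_disjoint p.primeCompl T P hPprime hd
    have hund := IsLocalization.under_map_of_isPrime_disjoint p.primeCompl T hPprime hd
    have hne : P.map (algebraMap A T) ≠ ⊥ := fun h => hP (by
      have h2 := hund
      rw [h, Ideal.under_def, Ideal.comap_bot_of_injective _
        (IsLocalization.injective T p.primeCompl_le_nonZeroDivisors)] at h2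
      exact h2.symm)
    have hmx : (P.map (algebraMap A T)).IsMaximal :=
      hprime.isMaximal_of_ne_bot hne
    have hPeq : P = p := by
      rw [← hund, IsLocalRing.eq_maximalIdeal hmx,
        IsLocalization.AtPrime.under_maximalIdeal T p]
    by_contra hne'
    have := Ideal.IsIntegral.comap_lt_comap (R := A) (lt_of_le_of_ne hQq hne')
    exact absurd (hPeq.trans hpq.symm) this.ne
  have h1 : Ring.KrullDimLE 1 S := by
    rw [Ring.krullDimLE_one_iff_of_noZeroDivisors]
    intro I hI hIp
    have hu := (IsLocalization.isPrime_iff_isPrime_disjoint q.primeCompl S I).1 hIp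
    have hne : I.under B ≠ ⊥ := fun h => hI (by
      rw [← IsLocalization.map_under q.primeCompl S I, h, Ideal.map_bot])
    have hle : I.under B ≤ q := fun b hb =>
      not_not.1 fun hbq => Set.disjoint_left.1 hu.2 hbq hb
    have := hmax _ hu.1 hne hle
    have hI' : I = IsLocalRing.maximalIdeal S := by
      rw [← IsLocalization.map_under q.primeCompl S I, this,
        IsLocalization.AtPrime.map_eq_maximalIdeal q S]
    rw [hI']
    exact IsLocalRing.maximalIdeal.isMaximal S
  refine le_antisymm (by simpa using Ring.krullDimLE_iff.1 h1) ?_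
  rw [ringKrullDim, Order.one_le_krullDim_iff]
  refine ⟨⟨⊥, Ideal.isPrime_bot⟩, ⟨IsLocalRing.maximalIdeal S, inferInstance⟩, ?_⟩
  refine (bot_le : (⊥ : Ideal S) ≤ IsLocalRing.maximalIdeal S).lt_of_ne fun hm => hq ?_
  rw [← IsLocalization.AtPrime.under_maximalIdeal S q, ← hm]
  exact Ideal.comap_bot_of_injective _ (IsLocalization.injective S q.primeCompl_le_nonZeroDivisors)

end Groth.Agent.NagataLib
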