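import Mathlib

/-!
The algebraic elements of a finitely generated field extension form a finite extension.
-/

namespace Groth.Agent.NagataLib

open MvPolynomial

theorem finiteDimensional_of_isAlgebraic_intermediate {K L : Type*} [Field K] [Field L]
    [Algebra K L] [Algebra.EssFiniteType K L] (E : IntermediateField K L)
    [Algebra.IsAlgebraic K E] : FiniteDimensional K E := by
  classical
  obtain ⟨t, ht⟩ := exists_isTranscendenceBasis K L
  have : Finite t := finite_of_isTranscendenceBasis ht
  let M := IntermediateField.adjoin K (Set.range ((↑) : t → L))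
  have : Algebra.IsAlgebraic M L := ht.isAlgebraic_field
  have : Algebra.EssFiniteType M L := Algebra.EssFiniteType.of_comp K M L
  have : Module.Finite M L := Algebra.finite_of_essFiniteType_of_isAlgebraic
  have hbound : ∀ s : Finset E, LinearIndependent K ((↑) : s → E) → s.card ≤ Module.finrank M L := by
    intro s hs
    have hai : AlgebraicIndependent E ((↑) : t → L) := ht.1.extendScalars E
    have hli : LinearIndependent M (fun e : s => ((e : E) : L)) := by
      rw [Fintype.linearIndependent_iff]
      intro g hg i
      have hrep : ∀ j, ∃ r q : MvPolynomial t K, aeval ((↑) : t → L) q ≠ 0 ∧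
          (g j : L) = aeval ((↑) : t → L) r / aeval ((↑) : t → L) q := by
        intro j
        obtain ⟨r, hr, q, hq, e⟩ := IntermediateField.mem_adjoin_iff_div.1 (g j).2
        rw [Algebra.adjoin_range_eq_range_aeval] at hr hq
        obtain ⟨r, rfl⟩ := hr
        obtain ⟨q, rfl⟩ := hq
        by_cases hq0 : aeval ((↑) : t → L) q = 0
        · exact ⟨0, 1, by simp, by
            rw [e, show (aeval ((↑) : t → L)).toRingHom q = 0 from hq0]; simp⟩
        · exact ⟨r, q, hq0, e⟩
      choose r q hq hg' using hrep
      let D : s → MvPolynomial t K := fun j => r j * ∏ l ∈ Finset.univ.erase j, q l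
      have hD : ∀ j, (g j : L) * (∏ l, aeval ((↑) : t → L) (q l))
          = aeval ((↑) : t → L) (D j) := by
        intro j
        rw [map_mul, map_prod, ← Finset.mul_prod_erase Finset.univ _ (Finset.mem_univ j),
          ← mul_assoc, hg' j, div_mul_cancel₀ _ (hq j)]
      let P : MvPolynomial t E := ∑ j : s, C (j : E) * map (algebraMap K E) (D j)
      have hP : aeval ((↑) : t → L) P = 0 := by
        have hzero : ∑ j : s, ((j : E) : L) * (g j : L) = 0 := by
          rw [← hg]
          exact Finset.sum_congr rfl fun j _ => mul_comm _ _
        have h1 : ∀ j : s, aeval ((↑) : t → L) (C (j : E) * map (algebraMap K E) (D j))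
            = ((j : E) : L) * (g j : L) * (∏ l, aeval ((↑) : t → L) (q l)) := by
          intro j
          rw [mul_assoc, hD j, map_mul, aeval_C, aeval_map_algebraMap]
          rfl
        rw [map_sum, Finset.sum_congr rfl fun j _ => h1 j, ← Finset.sum_mul, hzero, zero_mul]
      have hP0 : P = 0 := hai.eq_zero_of_aeval_eq_zero P hP
      have hcoeff : ∀ m, ∀ j : s, coeff m (D j) = 0 := by
        intro m
        refine Fintype.linearIndependent_iff.1 hs _ ?_
        have h2 := congrArg (coeff m) hP0
        rw [coeff_sum, coeff_zero] at h2
        rw [← h2]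
        refine Finset.sum_congr rfl fun j _ => ?_
        rw [coeff_C_mul, coeff_map, Algebra.smul_def, mul_comm]
      have hDi : D i = 0 := MvPolynomial.ext _ _ fun m => by rw [hcoeff m i, coeff_zero]
      have h3 := hD i
      rw [hDi, map_zero, mul_eq_zero] at h3
      rcases h3 with h3 | h3
      · exact Subtype.ext h3
      · obtain ⟨l, -, hl⟩ := Finset.prod_eq_zero_iff.1 h3
        exact absurd hl (hq l)
    simpa using hli.fintype_card_le_finrank
  have hrank : Module.rank K E ≤ Module.finrank M L := rank_le hbound
  exact Module.rank_lt_aleph0_iff.1 (hrank.trans_lt Cardinal.natCast_lt_aleph0)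

end Groth.Agent.NagataLib
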