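import Mathlib
import Groth.Prelude.Def_Found
import Groth.Agent.NagataLib.Basic
import Groth.Agent.NagataLib.FieldFG

/-!
The integral closure of a Nagata ring in a reduced algebra of finite type is finite.
-/

namespace Groth.Agent.NagataLib

universe u

/-- The integral closure in a domain essentially of finite type. -/
theorem finite_integralClosure_domain {R : Type u} [CommRing R] (hR : CAlg.IsNagata R)
    (S : Type u) [CommRing S] [IsDomain S] [Algebra R S] [Algebra.EssFiniteType R S] :
    Module.Finite R (integralClosure R S) := by
  let p := RingHom.ker (algebraMap R S)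
  have : p.IsPrime := RingHom.ker_isPrime _
  have := hR.1
  let R₀ := R ⧸ p
  let : Algebra R₀ S := (RingHom.kerLift (algebraMap R S)).toAlgebra
  have : IsScalarTower R R₀ S := IsScalarTower.of_algebraMap_eq fun x => rfl
  have : Algebra.EssFiniteType R₀ S := Algebra.EssFiniteType.of_comp R R₀ S
  refine finite_integralClosure_of_tower (A' := R₀) ?_
  let K := FractionRing R₀
  let L := FractionRing S
  have inj : Function.Injective (algebraMap R₀ L) := by
    rw [IsScalarTower.algebraMap_eq R₀ S L]
    exact (IsFractionRing.injective S L).comp (RingHom.kerLift_injective _)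
  have : FaithfulSMul R₀ L := (faithfulSMul_iff_algebraMap_injective R₀ L).mpr inj
  let := FractionRing.liftAlgebra R₀ L
  have : Algebra.EssFiniteType S L := Algebra.EssFiniteType.of_isLocalization L (nonZeroDivisors S)
  have : Algebra.EssFiniteType R₀ L := Algebra.EssFiniteType.comp R₀ S L
  have : Algebra.EssFiniteType K L := Algebra.EssFiniteType.of_comp R₀ K L
  let E := algebraicClosure K L
  have : FiniteDimensional K E := finiteDimensional_of_isAlgebraic_intermediate E
  have hE : Module.Finite R₀ (integralClosure R₀ E) := finite_integralClosure_of_isN2 (hR.2 p) K E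
  have : IsScalarTower R₀ E L := IsScalarTower.of_algebraMap_eq fun x => by
    rw [IsScalarTower.algebraMap_apply R₀ K L, IsScalarTower.algebraMap_apply R₀ K E,
      ← IsScalarTower.algebraMap_apply K E L]
  let f : integralClosure R₀ S →ₗ[R₀] integralClosure R₀ E :=
    { toFun := fun x => ⟨⟨algebraMap S L x.1,
        mem_algebraicClosure_iff'.2 (IsIntegral.tower_top (x.2.map (IsScalarTower.toAlgHom R₀ S L)))⟩,
          (isIntegral_algebraMap_iff (algebraMap E L).injective).1
            (x.2.map (IsScalarTower.toAlgHom R₀ S L))⟩
      map_add' := fun x y => Subtype.ext (Subtype.ext (map_add (algebraMap S L) x.1 y.1))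
      map_smul' := fun a x => Subtype.ext (Subtype.ext (by
        change algebraMap S L (a • x.1) = a • algebraMap S L x.1
        rw [Algebra.smul_def, Algebra.smul_def, map_mul, ← IsScalarTower.algebraMap_apply])) }
  refine finite_of_injective_linearMap f fun x y e => Subtype.ext (IsFractionRing.injective S L ?_)
  exact congrArg Subtype.val (congrArg Subtype.val e)

/-- The integral closure of a Nagata ring in a finite product of reduced algebras of finite type. -/
theorem finite_integralClosure_reduced {R : Type u} [CommRing R] (hR : CAlg.IsNagata R)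
    (S : Type u) [CommRing S] [IsReduced S] [Algebra R S] [Algebra.FiniteType R S] :
    Module.Finite R (integralClosure R S) := by
  have := hR.1
  have : IsNoetherianRing S := Algebra.FiniteType.isNoetherianRing R S
  have hfin : (minimalPrimes S).Finite := minimalPrimes.finite_of_isNoetherianRing S
  have : Finite (minimalPrimes S) := hfin.to_subtype
  have hP : ∀ P : minimalPrimes S, Module.Finite R (integralClosure R (S ⧸ P.1)) := fun P => by
    have : P.1.IsPrime := P.2.1.1
    exact finite_integralClosure_domain hR (S ⧸ P.1)
  let f : integralClosure R S →ₗ[R] ((P : minimalPrimes S) → integralClosure R (S ⧸ P.1)) :=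
    LinearMap.pi fun P =>
      { toFun := fun x => ⟨Ideal.Quotient.mkₐ R P.1 x.1, x.2.map _⟩
        map_add' := fun x y => Subtype.ext (map_add _ x.1 y.1)
        map_smul' := fun a x => Subtype.ext (map_smul (Ideal.Quotient.mkₐ R P.1) a x.1) }
  refine finite_of_injective_linearMap f fun x y e => Subtype.ext (sub_eq_zero.1 ?_)
  have h : (x.1 - y.1) ∈ sInf (minimalPrimes S) := by
    rw [Ideal.mem_sInf]
    intro P hP
    exact Ideal.Quotient.eq.1 (congrArg Subtype.val (congrFun e ⟨P, hP⟩))
  rw [minimalPrimes, Ideal.sInf_minimalPrimes] at h
  exact (show IsNilpotent (x.1 - y.1) by simpa [Ideal.radical, IsNilpotent] using h).eq_zero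

end Groth.Agent.NagataLib
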