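import Mathlib
import Groth.Prelude.Def_Found
import Groth.Agent.NagataLib.Universal

/-!
The polynomial ring over an N-1 (resp. N-2) Noetherian domain is N-1 (resp. N-2); algebras of
finite type over fields.
-/

namespace Groth.Agent.NagataLib

open Polynomial IntermediateField

universe u

section core

variable {R R₀ : Type*} [CommRing R] [CommRing R₀] [Algebra R R₀]

/-- `R[X] → R₀[X]`, `X ↦ X ^ q`. -/
noncomputable def expandHom (R R₀ : Type*) [CommRing R] [CommRing R₀] [Algebra R R₀] (q : ℕ) :
    R[X] →+* R₀[X] :=
  (expand R₀ q).toRingHom.comp (mapRingHom (algebraMap R R₀))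

theorem expandHom_injective (h : Function.Injective (algebraMap R R₀)) {q : ℕ} (hq : 0 < q) :
    Function.Injective (expandHom R R₀ q) :=
  (expand_injective hq).comp (Polynomial.map_injective _ h)

theorem expandHom_finite [Module.Finite R R₀] {q : ℕ} (hq : 0 < q) :
    (expandHom R R₀ q).Finite := by
  let : Algebra R[X] R₀[X] := (expandHom R R₀ q).toAlgebra
  have hC : ∀ r : R, algebraMap R[X] R₀[X] (C r) = C (algebraMap R R₀ r) := fun r => by
    simp [RingHom.algebraMap_toAlgebra, expandHom]
  have hX : algebraMap R[X] R₀[X] X = X ^ q := by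
    simp [RingHom.algebraMap_toAlgebra, expandHom]
  have : IsScalarTower R R[X] R₀[X] := IsScalarTower.of_algebraMap_eq fun r => (hC r).symm
  have : Algebra.FiniteType R R₀[X] := Algebra.FiniteType.trans (S := R₀) inferInstance inferInstance
  have : Algebra.FiniteType R[X] R₀[X] := Algebra.FiniteType.of_restrictScalars_finiteType R _ _
  have hXint : IsIntegral R[X] (X : R₀[X]) :=
    IsIntegral.of_pow hq (by rw [← hX]; exact isIntegral_algebraMap)
  have : Algebra.IsIntegral R[X] R₀[X] := by
    refine ⟨fun g => ?_⟩
    induction g using Polynomial.induction_on' with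
    | add a b ha hb => exact ha.add hb
    | monomial n r =>
      rw [← C_mul_X_pow_eq_monomial]
      exact (((Algebra.IsIntegral.isIntegral (R := R) r).map
        (IsScalarTower.toAlgHom R R₀ R₀[X])).tower_top).mul (hXint.pow n)
  exact Algebra.IsIntegral.finite

/-- The integral closure of `R[X]` in the fraction field of `R₀[X]`, for `R₀` normal and finite
over `R` and `R[X] → R₀[X]` given by `X ↦ X ^ q`. -/
theorem finite_integralClosure_expand [IsDomain R₀] [IsIntegrallyClosed R₀] [Module.Finite R R₀]
    {q : ℕ} (hq : 0 < q) (F : Type*) [Field F] [Algebra R₀[X] F] [IsFractionRing R₀[X] F]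
    [Algebra R[X] F]
    (hF : ∀ f, algebraMap R[X] F f = algebraMap R₀[X] F (expandHom R R₀ q f)) :
    Module.Finite R[X] (integralClosure R[X] F) := by
  let : Algebra R[X] R₀[X] := (expandHom R R₀ q).toAlgebra
  have : IsScalarTower R[X] R₀[X] F := IsScalarTower.of_algebraMap_eq hF
  have : Module.Finite R[X] R₀[X] := expandHom_finite hq
  refine finite_integralClosure_of_tower (A' := R₀[X]) ?_
  rw [IsIntegrallyClosed.integralClosure_eq_bot]
  infer_instance

/-- Polynomials whose coefficients have `q`-th roots in `R₀` are `q`-th powers after `X ↦ X ^ q`. -/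
theorem exists_pow_eq_expandHom (p e : ℕ) [ExpChar R₀[X] p] (f : R[X])
    (hf : ∀ n ∈ f.support, ∃ r : R₀, r ^ p ^ e = algebraMap R R₀ (f.coeff n)) :
    ∃ g : R₀[X], g ^ p ^ e = expandHom R R₀ (p ^ e) f := by
  choose rt hrt using hf
  refine ⟨∑ n ∈ f.support.attach, C (rt n.1 n.2) * X ^ n.1, ?_⟩
  rw [sum_pow_char_pow p]
  conv_rhs => rw [f.as_sum_support_C_mul_X_pow, map_sum, ← Finset.sum_attach]
  refine Finset.sum_congr rfl fun n _ => ?_
  have h1 : expandHom R R₀ (p ^ e) (C (f.coeff n.1) * X ^ n.1)
      = C (algebraMap R R₀ (f.coeff n.1)) * (X ^ p ^ e) ^ n.1 := by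
    simp [expandHom]
  rw [h1, mul_pow, ← C_pow, hrt n.1 n.2, ← pow_mul, ← pow_mul, Nat.mul_comm n.1]

/-- A field extension generated by elements whose `p ^ e`-th powers are in the base maps to any
field containing the corresponding roots. -/
theorem exists_algHom_of_pow_roots {F₁ L F : Type*} [Field F₁] [Field L] [Algebra F₁ L]
    [FiniteDimensional F₁ L] [Field F] [Algebra F₁ F] (p : ℕ) [ExpChar F p] (e : ℕ) (hp : 0 < p ^ e)
    {ι : Type*} (b : Module.Basis ι F₁ L) (a : ι → F₁)
    (ha : ∀ i, algebraMap F₁ L (a i) = b i ^ p ^ e)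
    (hr : ∀ i, ∃ r : F, r ^ p ^ e = algebraMap F₁ F (a i)) : Nonempty (L →ₐ[F₁] F) := by
  have hS : IntermediateField.adjoin F₁ (Set.range b) = ⊤ := by
    refine eq_top_iff.2 fun x _ => ?_
    have hx : x ∈ Submodule.span F₁ (Set.range b) := b.mem_span x
    exact (Submodule.span_le
      (p := (IntermediateField.adjoin F₁ (Set.range b)).toSubalgebra.toSubmodule)).2
      (IntermediateField.subset_adjoin F₁ _) hx
  refine nonempty_algHom_of_adjoin_splits (K := F) ?_ hS
  rintro _ ⟨i, rfl⟩
  obtain ⟨r, hr⟩ := hr i
  refine ⟨Algebra.IsIntegral.isIntegral _, ?_⟩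
  have hdvd : minpoly F₁ (b i) ∣ X ^ p ^ e - C (a i) := minpoly.dvd _ _ (by simp [ha i])
  have : ExpChar F[X] p := expChar_of_injective_ringHom (C_injective (R := F)) p
  refine Polynomial.Splits.of_dvd ?_ ?_ (Polynomial.map_dvd (algebraMap F₁ F) hdvd)
  · rw [Polynomial.map_sub, Polynomial.map_pow, map_X, map_C, ← hr, C_pow, ← sub_pow_expChar_pow]
    exact (Polynomial.Splits.X_sub_C r).pow _
  · exact ((monic_X_pow_sub_C (a i) hp.ne').map (algebraMap F₁ F)).ne_zero

end core

variable {R : Type u} [CommRing R] [IsDomain R] [IsNoetherianRing R]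

/-- The polynomial ring over an N-1 Noetherian domain is N-1. -/
theorem isN1_polynomial (hR : CAlg.IsN1 R) : CAlg.IsN1 R[X] := by
  let K := FractionRing R
  let R₀ := integralClosure R K
  have : Module.Finite R R₀ := hR
  have : IsIntegrallyClosed R₀ := integralClosure.isIntegrallyClosedOfFiniteExtension K
  have : IsFractionRing R₀ K := integralClosure.isFractionRing_of_finite_extension K K
  let F := FractionRing R₀[X]
  have inj : Function.Injective (algebraMap R R₀) := fun x y e =>
    IsFractionRing.injective R K (congrArg Subtype.val e)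
  let : Algebra R[X] F := ((algebraMap R₀[X] F).comp (expandHom R R₀ 1)).toAlgebra
  have hinj : Function.Injective (algebraMap R[X] F) :=
    (IsFractionRing.injective R₀[X] F).comp (expandHom_injective inj one_pos)
  let j : FractionRing R[X] →ₐ[R[X]] F :=
    { IsFractionRing.lift hinj with commutes' := fun f => IsFractionRing.lift_algebraMap hinj f }
  exact finite_integralClosure_of_algHom j j.injective
    (finite_integralClosure_expand (R₀ := R₀) one_pos F fun f => rfl)

/-- The polynomial ring over an N-2 Noetherian domain is N-2. -/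
theorem isN2_polynomial (hR : CAlg.IsN2 R) : CAlg.IsN2 R[X] := by
  classical
  refine isN2_of_forall_purelyInseparable fun L _ _ _ _ hfd hPI => ?_
  let F₁ := FractionRing R[X]
  obtain ⟨p, hp⟩ := ExpChar.exists F₁
  let e := IsPurelyInseparable.exponent F₁ L
  let q := p ^ e
  have hq : 0 < q := expChar_pow_pos F₁ p e
  have hRF : Function.Injective ((algebraMap R[X] F₁).comp C) :=
    (IsFractionRing.injective R[X] F₁).comp C_injective
  have : ExpChar R p := RingHom.expChar _ hRF p
  let b := Module.finBasis F₁ L
  have hpow : ∀ i, ∃ a : F₁, algebraMap F₁ L a = b i ^ q := fun i =>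
    IsPurelyInseparable.exponent_def' F₁ p (b i)
  choose a ha using hpow
  choose nu de hde hnd using fun i => IsFractionRing.div_surjective (A := R[X]) (a i)
  let Cs : Finset R := Finset.univ.biUnion fun i =>
    ((nu i).support.image (nu i).coeff) ∪ ((de i).support.image (de i).coeff)
  let K := FractionRing R
  let Ω := AlgebraicClosure K
  choose root hroot using fun c : R => IsAlgClosed.exists_pow_nat_eq (algebraMap R Ω c) hq
  let K₀ := IntermediateField.adjoin K (root '' (Cs : Set R))
  have : FiniteDimensional K K₀ := by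
    have : Finite (root '' (Cs : Set R)) := ((Cs.finite_toSet).image root).to_subtype
    exact IntermediateField.finiteDimensional_adjoin fun x hx =>
      Algebra.IsIntegral.isIntegral x
  have : IsScalarTower R K K₀ := inferInstance
  let R₀ := integralClosure R K₀
  have : Module.Finite R R₀ := finite_integralClosure_of_isN2 hR K K₀
  have : IsIntegrallyClosed R₀ := integralClosure.isIntegrallyClosedOfFiniteExtension K
  have hK : Function.Injective (algebraMap R K₀) := by
    rw [IsScalarTower.algebraMap_eq R K K₀]
    exact (algebraMap K K₀).injective.comp (IsFractionRing.injective R K)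
  have inj : Function.Injective (algebraMap R R₀) := fun x y h => hK (congrArg Subtype.val h)
  have : ExpChar R₀ p := expChar_of_injective_algebraMap inj p
  have : ExpChar R₀[X] p := expChar_of_injective_ringHom (C_injective (R := R₀)) p
  have hrootmem : ∀ c ∈ Cs, ∃ r : R₀, r ^ q = algebraMap R R₀ c := by
    intro c hc
    let r : K₀ := ⟨root c, IntermediateField.subset_adjoin K _ ⟨c, hc, rfl⟩⟩
    have hr : r ^ q = algebraMap R K₀ c := Subtype.ext (by
      rw [SubmonoidClass.coe_pow]
      exact hroot c)
    exact ⟨⟨r, IsIntegral.of_pow hq (hr ▸ isIntegral_algebraMap)⟩, Subtype.ext hr⟩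
  have hpoly : ∀ f : R[X], (∀ n ∈ f.support, f.coeff n ∈ Cs) →
      ∃ g : R₀[X], g ^ q = expandHom R R₀ q f := fun f hf =>
    exists_pow_eq_expandHom p e f fun n hn => hrootmem _ (hf n hn)
  let F := FractionRing R₀[X]
  have : ExpChar F p := expChar_of_injective_algebraMap (IsFractionRing.injective R₀[X] F) p
  let : Algebra R[X] F := ((algebraMap R₀[X] F).comp (expandHom R R₀ q)).toAlgebra
  have hinj : Function.Injective (algebraMap R[X] F) :=
    (IsFractionRing.injective R₀[X] F).comp (expandHom_injective inj hq)
  let : Algebra F₁ F := (IsFractionRing.lift hinj).toAlgebra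
  have : IsScalarTower R[X] F₁ F := IsScalarTower.of_algebraMap_eq fun f =>
    (IsFractionRing.lift_algebraMap hinj f).symm
  have hr : ∀ i, ∃ r : F, r ^ q = algebraMap F₁ F (a i) := by
    intro i
    obtain ⟨gn, hgn⟩ := hpoly (nu i) fun n hn => Finset.mem_biUnion.2 ⟨i, Finset.mem_univ i,
      Finset.mem_union_left _ (Finset.mem_image_of_mem _ hn)⟩
    obtain ⟨gd, hgd⟩ := hpoly (de i) fun n hn => Finset.mem_biUnion.2 ⟨i, Finset.mem_univ i,
      Finset.mem_union_right _ (Finset.mem_image_of_mem _ hn)⟩
    refine ⟨algebraMap R₀[X] F gn / algebraMap R₀[X] F gd, ?_⟩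
    rw [← hnd i, map_div₀, ← IsScalarTower.algebraMap_apply, ← IsScalarTower.algebraMap_apply,
      div_pow, ← map_pow, ← map_pow, hgn, hgd]
    rfl
  obtain ⟨j⟩ := exists_algHom_of_pow_roots p e hq b a ha hr
  exact finite_integralClosure_of_algHom (j.restrictScalars R[X]) j.injective
    (finite_integralClosure_expand (R₀ := R₀) hq F fun f => rfl)

/-- Polynomial rings in finitely many variables over a field are N-2. -/
theorem isN2_mvPolynomial (k : Type u) [Field k] (n : ℕ) :
    CAlg.IsN2 (MvPolynomial (Fin n) k) := by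
  induction n with
  | zero => exact isN2_of_ringEquiv (MvPolynomial.isEmptyRingEquiv k (Fin 0)).symm (isN2_of_field k)
  | succ n ih =>
    exact isN2_of_ringEquiv (MvPolynomial.finSuccEquiv k n).symm.toRingEquiv (isN2_polynomial ih)

/-- A domain of finite type over a field is N-2. -/
theorem isN2_of_finiteType_field (k : Type u) [Field k] (A : Type u) [CommRing A] [IsDomain A]
    [Algebra k A] [Algebra.FiniteType k A] : CAlg.IsN2 A := by
  obtain ⟨n, g, hinj, hfin⟩ := exists_finite_inj_algHom_of_fg k A
  let : Algebra (MvPolynomial (Fin n) k) A := g.toRingHom.toAlgebra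
  have : Module.Finite (MvPolynomial (Fin n) k) A := hfin
  exact isN2_of_finite hinj (isN2_mvPolynomial k n)

/-- Fields are universally Japanese. -/
theorem isUniversallyJapanese_field (k : Type u) [Field k] : CAlg.IsUniversallyJapanese k :=
  fun S _ _ _ hS => @isN2_of_finiteType_field k _ S _ _ _ hS

/-- Algebras of finite type over fields are Nagata. -/
theorem isNagata_of_finiteType_field (k : Type u) [Field k] (A : Type u) [CommRing A]
    [Algebra k A] [Algebra.FiniteType k A] : CAlg.IsNagata A :=
  ⟨Algebra.FiniteType.isNoetherianRing k A, fun p _ => by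
    have : Algebra.FiniteType k (A ⧸ p) :=
      Algebra.FiniteType.of_surjective (Ideal.Quotient.mkₐ k p) (Ideal.Quotient.mkₐ_surjective k p)
    exact isN2_of_finiteType_field k (A ⧸ p)⟩

end Groth.Agent.NagataLib
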