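import Groth.Prelude.Def_Curv2
import Groth.Prelude.Def_Found
import Groth.Prelude.Def_Pi1
import Groth.Agent.NagataLib.Polynomial
import Groth.Agent.NagataLib.FiniteClosure
import Groth.Agent.NagataLib.DimOne

/-!
Finiteness, normality and dimension of relative normalizations.
-/

namespace Groth.Agent.NagataLib

universe u

open CategoryTheory CategoryTheory.Limits AlgebraicGeometry Opposite TopologicalSpace

/-- The relative normalization is finite when the integral closures over affine opens are. -/
theorem isFinite_fromNormalization {X Y : Scheme.{u}} (f : X ⟶ Y) [QuasiCompact f]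
    [QuasiSeparated f] (h : ∀ U : Y.Opens, IsAffineOpen U →
      letI := (f.app U).hom.toAlgebra
      Module.Finite Γ(Y, U) (integralClosure Γ(Y, U) Γ(X, f ⁻¹ᵁ U))) :
    IsFinite f.fromNormalization := by
  refine { finite_app := fun U hU => ?_ }
  let := (f.app U).hom.toAlgebra
  rw [f.fromNormalization_app hU, CommRingCat.hom_comp]
  refine RingHom.Finite.comp (RingHom.Finite.of_surjective _ ?_)
    (RingHom.finite_algebraMap.2 (h U hU))
  exact (f.normalizationObjIso hU).symm.commRingCatIsoToRingEquiv.surjective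

/-- Over a scheme all of whose affine opens are Nagata, the normalization in a reduced scheme of
finite type is finite. -/
theorem isFinite_fromNormalization_of_nagata {X Y : Scheme.{u}} (f : X ⟶ Y) [QuasiCompact f]
    [QuasiSeparated f] [LocallyOfFiniteType f] [IsReduced X]
    (hN : ∀ U : Y.Opens, IsAffineOpen U → CAlg.IsNagata Γ(Y, U)) :
    IsFinite f.fromNormalization := by
  refine isFinite_fromNormalization f fun U hU => ?_
  let := (f.app U).hom.toAlgebra
  have := (hN U hU).1
  obtain ⟨s, hs, e⟩ :=
    isCompact_iff_finite_and_eq_biUnion_affineOpens.1 (f.isCompact_preimage hU.isCompact)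
  have hle : ∀ i : s, (i.1 : X.Opens) ≤ f ⁻¹ᵁ U := fun i z hz => by
    show z ∈ ((f ⁻¹ᵁ U : X.Opens) : Set X)
    rw [e]
    exact Opens.mem_iSup.2 ⟨i.1, Opens.mem_iSup.2 ⟨i.2, hz⟩⟩
  let alg : ∀ i : s, Algebra Γ(Y, U) Γ(X, i.1) := fun i => (f.appLE U i.1 (hle i)).hom.toAlgebra
  have hfin : ∀ i : s, Module.Finite Γ(Y, U) (integralClosure Γ(Y, U) Γ(X, i.1)) := fun i => by
    have : Algebra.FiniteType Γ(Y, U) Γ(X, i.1) :=
      Scheme.Hom.finiteType_appLE f hU i.1.2 (hle i)
    exact finite_integralClosure_reduced (hN U hU) _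
  let r : ∀ i : s, Γ(X, f ⁻¹ᵁ U) →ₐ[Γ(Y, U)] Γ(X, i.1) := fun i =>
    { (X.presheaf.map (homOfLE (hle i)).op).hom with
      commutes' := fun a => rfl }
  let F : integralClosure Γ(Y, U) Γ(X, f ⁻¹ᵁ U) →ₗ[Γ(Y, U)]
      ((i : s) → integralClosure Γ(Y, U) Γ(X, i.1)) :=
    LinearMap.pi fun i =>
      { toFun := fun x => ⟨r i x.1, x.2.map (r i)⟩
        map_add' := fun x y => Subtype.ext (map_add (r i) x.1 y.1)
        map_smul' := fun a x => Subtype.ext (map_smul (r i) a x.1) }
  have : Finite s := hs.to_subtype
  refine finite_of_injective_linearMap F fun x y h => Subtype.ext ?_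
  refine X.sheaf.eq_of_locally_eq' (fun i : s => (i.1 : X.Opens)) (f ⁻¹ᵁ U)
    (fun i => homOfLE (hle i)) ?_ x.1 y.1 fun i => congrArg Subtype.val (congrFun h i)
  intro z hz
  have hz' : z ∈ ((f ⁻¹ᵁ U : X.Opens) : Set X) := hz
  rw [e] at hz'
  obtain ⟨i, hi⟩ := Opens.mem_iSup.1 hz'
  obtain ⟨hi, hzi⟩ := Opens.mem_iSup.1 hi
  exact Opens.mem_iSup.2 ⟨⟨i, hi⟩, hzi⟩

/-- Affine opens of a scheme locally of finite type over a field are Nagata. -/
theorem isNagata_of_locallyOfFiniteType (k : Type u) [Field k] (X : Scheme.{u})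
    (p : X ⟶ Spec (CommRingCat.of k)) [LocallyOfFiniteType p] (U : X.Opens) (hU : IsAffineOpen U) :
    CAlg.IsNagata Γ(X, U) := by
  have h := Scheme.Hom.finiteType_appLE p (isAffineOpen_top _) hU (V := U)
    (show U ≤ p ⁻¹ᵁ ⊤ by simp)
  let φ : k →+* Γ(X, U) :=
    ((Scheme.ΓSpecIso (CommRingCat.of k)).inv ≫ p.appLE ⊤ U (by simp)).hom
  have hφ : φ.FiniteType :=
    h.comp (RingHom.FiniteType.of_surjective _
      (Scheme.ΓSpecIso (CommRingCat.of k)).symm.commRingCatIsoToRingEquiv.surjective)
  let := φ.toAlgebra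
  have : Algebra.FiniteType k Γ(X, U) := hφ
  exact isNagata_of_finiteType_field k _

section generic

variable {X : Scheme.{u}} [IsIntegral X] {K : Type u} [Field K] (φ : X.functionField →+* K)
  (g : Spec (CommRingCat.of K) ⟶ X)
  (hg : g = Spec.map (CommRingCat.ofHom φ) ≫ X.fromSpecStalk (genericPoint X))
include hg

theorem base_eq_genericPoint (z : Spec (CommRingCat.of K)) : g.base z = genericPoint X := by
  subst hg
  refine (Specializes.antisymm ?_ ((genericPoint_spec X).specializes trivial)).eq
  have : (X.fromSpecStalk (genericPoint X)) ((Spec.map (CommRingCat.ofHom φ)) z) ∈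
      Set.range (X.fromSpecStalk (genericPoint X)) := ⟨_, rfl⟩
  rw [Scheme.range_fromSpecStalk] at this
  exact this

theorem top_le_preimage (U : X.Opens) [hne : Nonempty U] : ⊤ ≤ g ⁻¹ᵁ U := fun z _ => by
  show g.base z ∈ U
  rw [base_eq_genericPoint φ g hg z]
  exact ((genericPoint_spec X).mem_open_set_iff U.isOpen).mpr (by simpa using hne)

theorem appLE_eq (U : X.Opens) [hne : Nonempty U] :
    g.appLE U ⊤ (top_le_preimage φ g hg U) ≫ (Scheme.ΓSpecIso _).hom
      = X.germToFunctionField U ≫ CommRingCat.ofHom φ := by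
  have hmem : genericPoint X ∈ U :=
    ((genericPoint_spec X).mem_open_set_iff U.isOpen).mpr (by simpa using hne)
  have h0 : ⊤ ≤ (X.fromSpecStalk (genericPoint X)) ⁻¹ᵁ U := top_le_preimage (RingHom.id _) _
    (by rw [CommRingCat.ofHom_id, Spec.map_id, Category.id_comp]) U
  have h1 : (X.fromSpecStalk (genericPoint X)).appLE U ⊤ h0 =
      X.germToFunctionField U ≫ (Scheme.ΓSpecIso _).inv := by
    rw [Scheme.Hom.appLE, Scheme.fromSpecStalk_app hmem, Category.assoc, Category.assoc,
      ← Functor.map_comp]
    rw [show (homOfLE _).op ≫ (homOfLE h0).op = 𝟙 _ from Subsingleton.elim _ _]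
    exact congrArg _ ((congrArg _ (CategoryTheory.Functor.map_id _ _)).trans (Category.comp_id _))
  subst hg
  rw [← Scheme.Hom.appLE_comp_appLE _ _ U ⊤ ⊤ h0 (by simp), h1, Category.assoc, Category.assoc]
  rw [show (Spec.map (CommRingCat.ofHom φ)).appLE ⊤ ⊤ (by simp) =
    (Spec.map (CommRingCat.ofHom φ)).appTop from (Scheme.Hom.app_eq_appLE _).symm]
  rw [Scheme.ΓSpecIso_naturality]
  exact congrArg (X.germToFunctionField U ≫ ·)
    (Iso.inv_hom_id_assoc (Scheme.ΓSpecIso X.functionField) (CommRingCat.ofHom φ))

/-- The integral closures in the sections of `Spec K` are those in `K`. -/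
theorem exists_algEquiv (U : X.Opens) [Nonempty U] :
    letI := (g.app U).hom.toAlgebra
    letI := (φ.comp (X.germToFunctionField U).hom).toAlgebra
    Nonempty (Γ(Spec (CommRingCat.of K), g ⁻¹ᵁ U) ≃ₐ[Γ(X, U)] K) := by
  let i1 := (g.app U).hom.toAlgebra
  let i2 := (φ.comp (X.germToFunctionField U).hom).toAlgebra
  have hiso : IsIso ((Spec (CommRingCat.of K)).presheaf.map
      (homOfLE (top_le_preimage φ g hg U)).op) := by
    have hh : g ⁻¹ᵁ U = ⊤ := top_le_iff.1 (top_le_preimage φ g hg U)
    have : IsIso (homOfLE (top_le_preimage φ g hg U)) :=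
      ⟨homOfLE hh.le, Subsingleton.elim _ _, Subsingleton.elim _ _⟩
    infer_instance
  let e := asIso ((Spec (CommRingCat.of K)).presheaf.map
    (homOfLE (top_le_preimage φ g hg U)).op) ≪≫ Scheme.ΓSpecIso (CommRingCat.of K)
  refine ⟨AlgEquiv.ofRingEquiv (f := e.commRingCatIsoToRingEquiv) fun a => ?_⟩
  exact ConcreteCategory.congr_hom (appLE_eq φ g hg U) a

variable [QuasiCompact g] [QuasiSeparated g]

/-- Finiteness from the integral closures in `K`. -/
theorem isFinite_fromNormalization_generic
    (h : ∀ U : X.Opens, IsAffineOpen U → ∀ [Nonempty U],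
      letI := (φ.comp (X.germToFunctionField U).hom).toAlgebra
      Module.Finite Γ(X, U) (integralClosure Γ(X, U) K)) :
    IsFinite g.fromNormalization := by
  refine isFinite_fromNormalization g fun U hU => ?_
  let i1 := (g.app U).hom.toAlgebra
  rcases isEmpty_or_nonempty U with hE | hE
  · have hbot : g ⁻¹ᵁ U = ⊥ := eq_bot_iff.mpr fun z hz => (hE.false ⟨_, hz⟩).elim
    have hs : Subsingleton Γ(Spec (CommRingCat.of K), g ⁻¹ᵁ U) := by
      rw [hbot]; infer_instance
    have hs' : Subsingleton (integralClosure Γ(X, U) Γ(Spec (CommRingCat.of K), g ⁻¹ᵁ U)) :=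
      ⟨fun a b => Subtype.ext (Subsingleton.elim _ _)⟩
    infer_instance
  · let i2 := (φ.comp (X.germToFunctionField U).hom).toAlgebra
    obtain ⟨e⟩ := exists_algEquiv φ g hg U
    have := h U hU
    exact Module.Finite.equiv e.mapIntegralClosure.symm.toLinearEquiv

/-- The relative normalization at the generic point is a normal scheme. -/
theorem isNormalScheme_normalization : Pi1.IsNormalScheme g.normalization := by
  intro x
  obtain ⟨_, ⟨U : X.Opens, hU, rfl⟩, hxU, -⟩ := X.isBasis_affineOpens.exists_subset_of_mem_open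
    (Set.mem_univ (g.fromNormalization x)) isOpen_univ
  have hne : Nonempty U := ⟨⟨_, hxU⟩⟩
  let i1 := (g.app U).hom.toAlgebra
  let i2 := (φ.comp (X.germToFunctionField U).hom).toAlgebra
  obtain ⟨e⟩ := exists_algEquiv φ g hg U
  have hV : IsAffineOpen (g.fromNormalization ⁻¹ᵁ U) := hU.preimage g.fromNormalization
  have hne' : Nonempty (g.fromNormalization ⁻¹ᵁ U) := ⟨⟨x, hxU⟩⟩
  let B := Γ(g.normalization, g.fromNormalization ⁻¹ᵁ U)
  let ψ : B ≃+* integralClosure Γ(X, U) K :=
    (g.normalizationObjIso hU).commRingCatIsoToRingEquiv.trans e.mapIntegralClosure.toRingEquiv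
  have : IsIntegrallyClosed (integralClosure Γ(X, U) K) :=
    .of_isIntegrallyClosed_of_isIntegrallyClosedIn _ K
  have : IsIntegrallyClosed B := IsIntegrallyClosed.of_equiv ψ.symm
  let := TopCat.Presheaf.algebra_section_stalk g.normalization.presheaf
    (U := g.fromNormalization ⁻¹ᵁ U) ⟨x, hxU⟩
  have := hV.isLocalization_stalk ⟨x, hxU⟩
  exact ⟨inferInstance, isIntegrallyClosed_of_isLocalization _ _
    (hV.primeIdealOf ⟨x, hxU⟩).asIdeal.primeCompl_le_nonZeroDivisors⟩

/-- The map from the normalization is surjective. -/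
theorem surjective_fromNormalization : Surjective g.fromNormalization := by
  refine ⟨fun y => ?_⟩
  have hcl : IsClosed (Set.range g.fromNormalization) :=
    g.fromNormalization.isClosedMap.isClosed_range
  have hz : genericPoint X ∈ Set.range g.fromNormalization := by
    let z : Spec (CommRingCat.of K) := ⟨⊥, Ideal.isPrime_bot⟩
    refine ⟨g.toNormalization z, ?_⟩
    rw [← Scheme.Hom.comp_apply, g.toNormalization_fromNormalization]
    exact base_eq_genericPoint φ g hg z
  exact ((genericPoint_spec X).specializes trivial).mem_closed hcl hz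

/-- One-dimensionality at closed points. -/
theorem ringKrullDim_stalk_eq_one [IsFinite g.fromNormalization]
    (hX : ∀ x : X, IsClosed ({x} : Set X) → ringKrullDim (X.presheaf.stalk x) = 1)
    (x' : g.normalization) (hx' : IsClosed ({x'} : Set g.normalization)) :
    ringKrullDim (g.normalization.presheaf.stalk x') = 1 := by
  set x := g.fromNormalization x' with hx
  have hxcl : IsClosed ({x} : Set X) := by
    have := g.fromNormalization.isClosedMap _ hx'
    rwa [Set.image_singleton] at this
  obtain ⟨_, ⟨U : X.Opens, hU, rfl⟩, hxU, -⟩ := X.isBasis_affineOpens.exists_subset_of_mem_open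
    (Set.mem_univ x) isOpen_univ
  have hne : Nonempty U := ⟨⟨_, hxU⟩⟩
  let V := g.fromNormalization ⁻¹ᵁ U
  have hV : IsAffineOpen V := hU.preimage g.fromNormalization
  have hne' : Nonempty V := ⟨⟨x', hxU⟩⟩
  let := (g.fromNormalization.app U).hom.toAlgebra
  have : Algebra.IsIntegral Γ(X, U) Γ(g.normalization, V) :=
    ⟨g.fromNormalization.isIntegral_app U hU⟩
  have hinj : Function.Injective (algebraMap Γ(X, U) Γ(g.normalization, V)) := by
    intro a b h
    apply X.germToFunctionField_injective U
    apply φ.injective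
    have h2 : g.app U a = g.app U b := by
      have hc := Scheme.Hom.congr_app g.toNormalization_fromNormalization U
      rw [Scheme.Hom.comp_app] at hc
      have h' := congrArg (g.toNormalization.app V) (show g.fromNormalization.app U a = g.fromNormalization.app U b from h)
      have ha := ConcreteCategory.congr_hom hc a
      have hb := ConcreteCategory.congr_hom hc b
      simp only [CommRingCat.hom_comp, RingHom.comp_apply] at ha hb
      rw [ha, hb] at h'
      have hinj' : Function.Injective ((Spec (CommRingCat.of K)).presheaf.map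
          (eqToHom (show g.toNormalization ⁻¹ᵁ g.fromNormalization ⁻¹ᵁ U = g ⁻¹ᵁ U by
            rw [← Scheme.Hom.comp_preimage, g.toNormalization_fromNormalization])).op) :=
        (ConcreteCategory.bijective_of_isIso _).1
      exact hinj' h'
    have e := fun c => ConcreteCategory.congr_hom (appLE_eq φ g hg U) c
    have := congrArg (fun t => (Scheme.ΓSpecIso (CommRingCat.of K)).hom
      ((Spec (CommRingCat.of K)).presheaf.map (homOfLE (top_le_preimage φ g hg U)).op t)) h2
    exact (e a).symm.trans (this.trans (e b))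
  let := TopCat.Presheaf.algebra_section_stalk X.presheaf (U := U) ⟨x, hxU⟩
  let := TopCat.Presheaf.algebra_section_stalk g.normalization.presheaf (U := V) ⟨x', hxU⟩
  have := hU.isLocalization_stalk ⟨x, hxU⟩
  have := hV.isLocalization_stalk ⟨x', hxU⟩
  have hpq := congrArg PrimeSpectrum.asIdeal
    (IsAffineOpen.comap_primeIdealOf_appLE (f := g.fromNormalization) U hU V hV le_rfl
      (x := x') hxU)
  rw [← Scheme.Hom.app_eq_appLE] at hpq
  exact ringKrullDim_atPrime_eq_one_of_isIntegral hinj (hU.primeIdealOf ⟨x, hxU⟩).asIdeal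
    (hV.primeIdealOf ⟨x', hxU⟩).asIdeal hpq (X.presheaf.stalk x)
    (g.normalization.presheaf.stalk x') (hX x hxcl)

/-- The generic point goes to the generic point, and the residue fields agree when `φ` is iso. -/
theorem map_genericPoint [IsIntegral g.normalization] :
    g.fromNormalization.base (genericPoint g.normalization) = genericPoint X := by
  let z : Spec (CommRingCat.of K) := ⟨⊥, Ideal.isPrime_bot⟩
  have := surjective_fromNormalization φ g hg
  have hz : g.toNormalization z = genericPoint g.normalization := by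
    refine IsGenericPoint.eq ?_ (genericPoint_spec _)
    have hd := g.toNormalization.denseRange.closure_range
    have hr : Set.range g.toNormalization = {g.toNormalization z} :=
      Set.eq_singleton_iff_unique_mem.2 ⟨⟨z, rfl⟩, by
        rintro _ ⟨w, rfl⟩; rw [Subsingleton.elim w z]⟩
    rwa [hr] at hd
  rw [← hz, ← Scheme.Hom.comp_apply, g.toNormalization_fromNormalization]
  exact base_eq_genericPoint φ g hg z

end generic

end Groth.Agent.NagataLib
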