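import Groth.Agent.NagataLib.Scheme

/-!
Nagata / universally Japanese / Japanese are local properties of schemes.
-/

namespace Groth.Agent.NagataLib

universe u

open CategoryTheory CategoryTheory.Limits AlgebraicGeometry Opposite TopologicalSpace

theorem isNagata_of_ringEquiv {A B : Type u} [CommRing A] [CommRing B] (e : A ≃+* B)
    (hA : CAlg.IsNagata A) : CAlg.IsNagata B := by
  have := hA.1
  refine ⟨isNoetherianRing_of_ringEquiv A e, fun q _ => ?_⟩
  refine isN2_of_fractions ((Ideal.Quotient.mk q).comp e.toRingHom) hA.2 ⊥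
    (fun m hm => by rw [Submonoid.mem_bot.1 hm]; simp) fun b => ?_
  obtain ⟨b, rfl⟩ := Ideal.Quotient.mk_surjective b
  exact ⟨e.symm b, 1, one_mem _, by simp⟩

theorem isUniversallyJapanese_of_ringEquiv {A B : Type u} [CommRing A] [CommRing B] (e : A ≃+* B)
    (hA : CAlg.IsUniversallyJapanese A) : CAlg.IsUniversallyJapanese B := by
  let : Algebra A B := e.toRingHom.toAlgebra
  have : Algebra.FiniteType A B :=
    Algebra.FiniteType.of_surjective (Algebra.ofId A B) e.surjective
  exact isUniversallyJapanese_of_essFiniteType hA B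

variable {X : Scheme.{u}}

/-- `Γ` of a basic open as a localisation, via an isomorphism. -/
noncomputable def awayEquiv {U : X.Opens} (hU : IsAffineOpen U) (f : Γ(X, U)) :
    Localization.Away f ≃+* Γ(X, X.basicOpen f) :=
  letI := (X.presheaf.map (homOfLE (X.basicOpen_le f)).op).hom.toAlgebra
  haveI := hU.isLocalization_basicOpen f
  (IsLocalization.algEquiv (Submonoid.powers f) (Localization.Away f)
    Γ(X, X.basicOpen f)).toRingEquiv

/-- The Nagata property is local. -/
theorem isNagata_of_cover {ι : Type*} (U : ι → X.Opens) (hU : iSup U = ⊤)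
    (haff : ∀ i, IsAffineOpen (U i)) (hN : ∀ i, CAlg.IsNagata Γ(X, U i)) (V : X.Opens)
    (hV : IsAffineOpen V) : CAlg.IsNagata Γ(X, V) := by
  refine of_affine_open_cover (P := fun W : X.affineOpens => CAlg.IsNagata Γ(X, W.1))
    (fun i => ⟨U i, haff i⟩) hU ⟨V, hV⟩ (fun W f h => ?_) (fun W s hs h => ?_) hN
  · exact isNagata_of_ringEquiv (awayEquiv W.2 f)
      (isNagata_localization h (Submonoid.powers f) _)
  · refine isNagata_of_span (fun f : s => (f : Γ(X, W.1))) (by simpa using hs) fun f => ?_
    exact isNagata_of_ringEquiv (awayEquiv W.2 f.1).symm (h f)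

/-- Being universally Japanese is local. -/
theorem isUniversallyJapanese_of_cover {ι : Type*} (U : ι → X.Opens) (hU : iSup U = ⊤)
    (haff : ∀ i, IsAffineOpen (U i)) (hJ : ∀ i, CAlg.IsUniversallyJapanese Γ(X, U i))
    (V : X.Opens) (hV : IsAffineOpen V) : CAlg.IsUniversallyJapanese Γ(X, V) := by
  refine of_affine_open_cover (P := fun W : X.affineOpens => CAlg.IsUniversallyJapanese Γ(X, W.1))
    (fun i => ⟨U i, haff i⟩) hU ⟨V, hV⟩ (fun W f h => ?_) (fun W s hs h => ?_) hJ
  · exact isUniversallyJapanese_of_ringEquiv (awayEquiv W.2 f)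
      (isUniversallyJapanese_of_essFiniteType h (Localization.Away f))
  · refine isUniversallyJapanese_of_span (fun f : s => (f : Γ(X, W.1))) (by simpa using hs)
      fun f => ?_
    exact isUniversallyJapanese_of_ringEquiv (awayEquiv W.2 f.1).symm (h f)

/-- Being N-2 is local on an integral scheme. -/
theorem isN2_of_cover [IsIntegral X] {ι : Type*} (U : ι → X.Opens) (hU : iSup U = ⊤)
    (haff : ∀ i, IsAffineOpen (U i))
    (hJ : ∀ i, ∀ [Nonempty (U i)], CAlg.IsN2 Γ(X, U i)) (V : X.Opens) [Nonempty V]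
    (hV : IsAffineOpen V) : CAlg.IsN2 Γ(X, V) := by
  suffices h : ∀ [Nonempty V], CAlg.IsN2 Γ(X, V) from h
  refine of_affine_open_cover (P := fun W : X.affineOpens => ∀ [Nonempty W.1], CAlg.IsN2 Γ(X, W.1))
    (fun i => ⟨U i, haff i⟩) hU ⟨V, hV⟩ (fun W f h => ?_) (fun W s hs h => ?_) (fun i => hJ i)
  · intro hne
    have : Nonempty W.1 := hne.map fun x => ⟨x.1, X.basicOpen_le f x.2⟩
    let := (X.presheaf.map (homOfLE (X.basicOpen_le f)).op).hom.toAlgebra
    have := W.2.isLocalization_basicOpen f
    have hne' : Nonempty (X.basicOpen f) := hne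
    exact isN2_of_isLocalization (Submonoid.powers f) Γ(X, X.basicOpen f) h
  · intro hne
    let J := {f : s // (f : Γ(X, W.1)) ≠ 0}
    have hne' : ∀ f : J, Nonempty (X.basicOpen (f.1 : Γ(X, W.1))) := fun f => by
      by_contra hn
      rw [not_nonempty_iff] at hn
      exact f.2 ((basicOpen_eq_bot_iff _).1 (eq_bot_iff.2 fun x hx => (hn.false ⟨x, hx⟩).elim))
    have hspan : Ideal.span (Set.range fun f : J => (f.1 : Γ(X, W.1))) = ⊤ := by
      rw [eq_top_iff, ← hs, Ideal.span_le]
      intro f hf
      by_cases h0 : f = 0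
      · simp [h0]
      · exact Ideal.subset_span ⟨⟨⟨f, hf⟩, h0⟩, rfl⟩
    let alg : ∀ f : J, Algebra Γ(X, W.1) Γ(X, X.basicOpen (f.1 : Γ(X, W.1))) := fun f =>
      (X.presheaf.map (homOfLE (X.basicOpen_le (f.1 : Γ(X, W.1)))).op).hom.toAlgebra
    have hloc : ∀ f : J, IsLocalization.Away (f.1 : Γ(X, W.1))
        Γ(X, X.basicOpen (f.1 : Γ(X, W.1))) := fun f => W.2.isLocalization_basicOpen _
    refine isN2_of_span (fun f : J => (f.1 : Γ(X, W.1))) hspan
      (fun f => Γ(X, X.basicOpen (f.1 : Γ(X, W.1)))) fun f => ?_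
    have : Nonempty (X.affineBasicOpen (f.1 : Γ(X, W.1))).1 := hne' f
    exact h f.1

/-- A locally Noetherian scheme is Nagata iff its integral closed subschemes are Japanese. -/
theorem isNagata_iff_integral_closed_subschemes [IsLocallyNoetherian X] :
    (∀ U : X.Opens, IsAffineOpen U → CAlg.IsNagata Γ(X, U)) ↔
      ∀ (Z : Scheme.{u}) (i : Z ⟶ X) [IsClosedImmersion i] [IsIntegral Z]
        (V : Z.Opens) [Nonempty V], IsAffineOpen V → CAlg.IsN2 Γ(Z, V) := by
  constructor
  · intro h Z i _ _ V _ hV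
    refine isN2_of_cover (fun U : X.affineOpens => i ⁻¹ᵁ U.1) ?_ (fun U => U.2.preimage i)
      (fun U => ?_) V hV
    · exact IsOpenCover.comap (iSup_affineOpens_eq_top X) i.base.hom
    · intro hne
      refine isN2_of_fractions (i.app U.1).hom (h U.1 U.2).2 ⊥
        (fun m hm => by rw [Submonoid.mem_bot.1 hm]; simp) fun b => ?_
      obtain ⟨a, rfl⟩ := i.app_surjective U.1 U.2 b
      exact ⟨a, 1, one_mem _, by simp⟩
  · intro h U hU
    refine ⟨IsLocallyNoetherian.component_noetherian ⟨U, hU⟩, fun p _ => ?_⟩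
    let R₀ := Γ(X, U) ⧸ p
    let f : Spec (CommRingCat.of R₀) ⟶ X :=
      Spec.map (CommRingCat.ofHom (Ideal.Quotient.mk p)) ≫ hU.fromSpec
    have hqc : QuasiCompact f := inferInstance
    have hred : IsReduced f.image := by
      have hc : IsOpenCover fun W : X.affineOpens => f.imageι ⁻¹ᵁ W.1 :=
        IsOpenCover.comap (iSup_affineOpens_eq_top X) f.imageι.base.hom
      have : ∀ W, IsReduced ((f.image.openCoverOfIsOpenCover _ hc).X W) := fun W => by
        have : IsAffine ((f.image.openCoverOfIsOpenCover _ hc).X W) := W.2.preimage f.imageι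
        have h1 : _root_.IsReduced Γ(f.image, f.imageι ⁻¹ᵁ W.1) :=
          isReduced_of_injective _ (f.toImage_app_injective W)
        have : _root_.IsReduced Γ((f.image.openCoverOfIsOpenCover _ hc).X W, ⊤) :=
          isReduced_of_injective ((f.imageι ⁻¹ᵁ W.1).topIso.hom).hom
            (f.imageι ⁻¹ᵁ W.1).topIso.commRingCatIsoToRingEquiv.injective
        exact isReduced_of_isAffine_isReduced _
      exact IsReduced.of_openCover _ (f.image.openCoverOfIsOpenCover _ hc)
    have hirr : IrreducibleSpace f.image := by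
      rw [irreducibleSpace_def]
      have hi := ((IrreducibleSpace.isIrreducible_univ (Spec (CommRingCat.of R₀))).image _
        f.toImage.continuous.continuousOn).closure
      rwa [Set.image_univ, f.toImage.denseRange.closure_range] at hi
    have hint : IsIntegral f.image := isIntegral_of_irreducibleSpace_of_isReduced _
    have hclosed : IsClosedImmersion f.imageι := inferInstance
    have hpre : f ⁻¹ᵁ U = ⊤ := by
      rw [eq_top_iff]
      intro z _
      show hU.fromSpec ((Spec.map (CommRingCat.ofHom (Ideal.Quotient.mk p))) z) ∈ U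
      have hmem : hU.fromSpec ((Spec.map (CommRingCat.ofHom (Ideal.Quotient.mk p))) z) ∈
          Set.range hU.fromSpec := ⟨_, rfl⟩
      rw [hU.range_fromSpec] at hmem
      exact hmem
    have hker : RingHom.ker (f.app U).hom = p := by
      have hs : (f.app U) ≫ (Spec (CommRingCat.of R₀)).presheaf.map (eqToHom hpre.symm).op ≫
          (Scheme.ΓSpecIso _).hom = CommRingCat.ofHom (Ideal.Quotient.mk p) := by
        simp only [f, Scheme.Hom.comp_app, hU.fromSpec_app_self, Category.assoc]
        simp [Scheme.Hom.app_eq_appLE]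
        rw [show (Spec.map (CommRingCat.ofHom (Ideal.Quotient.mk p))).appLE ⊤ ⊤ (by simp) =
          (Spec.map (CommRingCat.ofHom (Ideal.Quotient.mk p))).appTop from
            (Scheme.Hom.app_eq_appLE _).symm, Scheme.ΓSpecIso_naturality]
        exact Iso.inv_hom_id_assoc (Scheme.ΓSpecIso Γ(X, U)) _
      ext a
      rw [RingHom.mem_ker, ← Ideal.Quotient.eq_zero_iff_mem]
      let e := asIso ((Spec (CommRingCat.of R₀)).presheaf.map (eqToHom hpre.symm).op) ≪≫
        Scheme.ΓSpecIso (CommRingCat.of R₀)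
      have ha : e.hom (f.app U a) = Ideal.Quotient.mk p a := ConcreteCategory.congr_hom hs a
      constructor
      · intro h0
        rw [← ha, h0, map_zero]
      · intro h0
        apply e.commRingCatIsoToRingEquiv.injective
        exact (ha.trans h0).trans (map_zero e.commRingCatIsoToRingEquiv).symm
    have hneV : Nonempty (f.imageι ⁻¹ᵁ U) := by
      let z : Spec (CommRingCat.of R₀) := ⟨⊥, Ideal.isPrime_bot⟩
      refine ⟨⟨f.toImage z, ?_⟩⟩
      show f.imageι (f.toImage z) ∈ U
      rw [← Scheme.Hom.comp_apply, f.toImage_imageι]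
      exact hpre.ge (Set.mem_univ z)
    have h2 := h f.image f.imageι (f.imageι ⁻¹ᵁ U) (hU.preimage f.imageι)
    have hk : f.ker.ideal ⟨U, hU⟩ = p := (f.ker_apply ⟨U, hU⟩).trans hker
    exact isN2_of_ringEquiv ((f.ker.subschemeObjIso ⟨U, hU⟩).commRingCatIsoToRingEquiv.trans
      (Ideal.quotEquivOfEq hk)) h2

end Groth.Agent.NagataLib
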