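import Groth.Agent.NagataLib.Scheme
import Groth.Agent.GeomIrr.Glue

set_option autoImplicit false
set_option linter.style.haveILetI false

/-!
# The function field of the normalization in a field extension
-/

namespace Groth.Agent.NagataLib

universe u

open CategoryTheory CategoryTheory.Limits AlgebraicGeometry Opposite TopologicalSpace

variable {X : Scheme.{u}} [IsIntegral X] {K : Type u} [Field K] (φ : X.functionField →+* K)
  (g : Spec (CommRingCat.of K) ⟶ X)
  (hg : g = Spec.map (CommRingCat.ofHom φ) ≫ X.fromSpecStalk (genericPoint X))
  [QuasiCompact g] [QuasiSeparated g]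
include hg

theorem fromNormalization_genericPoint [IsIntegral g.normalization] :
    g.fromNormalization (genericPoint g.normalization) = genericPoint X := by
  haveI := surjective_fromNormalization φ g hg
  obtain ⟨z, hz⟩ := g.fromNormalization.surjective (genericPoint X)
  have h : g.fromNormalization (genericPoint g.normalization) ⤳ genericPoint X := by
    rw [← hz]
    exact ((genericPoint_spec g.normalization).specializes trivial).map g.fromNormalization.base.hom.continuous
  exact (h.antisymm ((genericPoint_spec X).specializes trivial)).eq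

theorem preimage_genericPoint [IsIntegral g.normalization] :
    g.fromNormalization.base ⁻¹' {genericPoint X} = {genericPoint g.normalization} := by
  ext z
  refine ⟨fun hz => ?_, fun hz => ?_⟩
  · exact (GeomIrr.eq_of_specializes_of_isIntegralHom g.fromNormalization
      ((genericPoint_spec g.normalization).specializes trivial)
      ((fromNormalization_genericPoint φ g hg).trans (hz : _ = genericPoint X).symm)).symm
  · rw [Set.mem_singleton_iff] at hz
    subst hz
    exact fromNormalization_genericPoint φ g hg

theorem toNormalization_closedPoint [IsIntegral g.normalization] :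
    g.toNormalization (IsLocalRing.closedPoint K) = genericPoint g.normalization := by
  let o : Spec (CommRingCat.of K) := IsLocalRing.closedPoint K
  have h : genericPoint g.normalization ⤳ g.toNormalization o :=
    (genericPoint_spec g.normalization).specializes trivial
  refine (GeomIrr.eq_of_specializes_of_isIntegralHom g.fromNormalization h ?_).symm
  rw [fromNormalization_genericPoint φ g hg, ← Scheme.Hom.comp_apply, g.toNormalization_fromNormalization]
  exact (base_eq_genericPoint φ g hg o).symm

theorem range_stalkClosedPointTo [IsIntegral g.normalization] :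
    Set.range (Scheme.stalkClosedPointTo g.toNormalization).hom =
      {y : K | ∃ q : Polynomial X.functionField, q.Monic ∧ Polynomial.eval₂ φ y q = 0} := by
  letI iK : Algebra X.functionField K := φ.toAlgebra
  let o : Spec (CommRingCat.of K) := IsLocalRing.closedPoint K
  obtain ⟨U, hU, hηU, -⟩ := exists_isAffineOpen_mem_and_subset (X := X) (x := genericPoint X) (U := ⊤) trivial
  haveI : Nonempty U := ⟨⟨_, hηU⟩⟩
  haveI := functionField_isFractionRing_of_isAffineOpen X U hU
  let V := g.fromNormalization ⁻¹ᵁ U
  have hpV : g.toNormalization o ∈ V := by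
    change g.fromNormalization (g.toNormalization (IsLocalRing.closedPoint K)) ∈ U
    rw [toNormalization_closedPoint φ g hg, fromNormalization_genericPoint φ g hg]; exact hηU
  let h := (Scheme.stalkClosedPointTo g.toNormalization).hom
  letI i1 := (g.app U).hom.toAlgebra
  letI i2 : Algebra Γ(X, U) K := (φ.comp (X.germToFunctionField U).hom).toAlgebra
  haveI : IsScalarTower Γ(X, U) X.functionField K := IsScalarTower.of_algebraMap_eq fun _ => rfl
  have hE : ⊤ ≤ g ⁻¹ᵁ U := top_le_preimage φ g hg U
  let σ' : Γ(Spec (CommRingCat.of K), g ⁻¹ᵁ U) ⟶ CommRingCat.of K :=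
    (Spec (CommRingCat.of K)).presheaf.map (homOfLE hE).op ≫ (Scheme.ΓSpecIso (CommRingCat.of K)).hom
  let σ : Γ(Spec (CommRingCat.of K), g ⁻¹ᵁ U) →ₐ[Γ(X, U)] K :=
    { σ'.hom with commutes' := fun a => ConcreteCategory.congr_hom (appLE_eq φ g hg U) a }
  have hiso : IsIso σ' := by
    have hh : g ⁻¹ᵁ U = ⊤ := top_le_iff.1 hE
    have : IsIso (homOfLE hE) := ⟨homOfLE hh.le, Subsingleton.elim _ _, Subsingleton.elim _ _⟩
    infer_instance
  let N := (g.normalizationObjIso hU).commRingCatIsoToRingEquiv
  have hθ : ∀ b : Γ(g.normalization, V),
      h (g.normalization.presheaf.germ V _ hpV b) = σ (N b).1 := by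
    intro b
    have e1 := ConcreteCategory.congr_hom (Scheme.germ_stalkClosedPointTo g.toNormalization V hpV) b
    refine e1.trans ?_
    have e2 : g.toNormalization.appLE V (g ⁻¹ᵁ U) (by simp [V, ← Scheme.Hom.comp_preimage]) b = (N b).1 :=
      (ConcreteCategory.congr_hom (g.normalizationObjIso_hom_val hU) b).symm
    rw [← e2]
    refine ConcreteCategory.congr_hom (f := g.toNormalization.app V ≫ _)
      (g := g.toNormalization.appLE V (g ⁻¹ᵁ U) _ ≫ σ') ?_ b
    simp only [σ', Scheme.Hom.appLE, Iso.trans_hom, Functor.mapIso_hom, Category.assoc, Iso.op_hom, eqToIso.hom,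
      ← Functor.map_comp_assoc]
    rfl
  have hint : ∀ b : Γ(g.normalization, V), _root_.IsIntegral X.functionField (h (g.normalization.presheaf.germ V _ hpV b)) := by
    intro b
    rw [hθ]
    exact ((N b).2.map σ).tower_top
  have hfield : IsField (g.normalization.presheaf.stalk (g.toNormalization o)) := by
    rw [show g.toNormalization o = genericPoint g.normalization from toNormalization_closedPoint φ g hg]
    exact Field.toIsField g.normalization.functionField
  haveI : Nontrivial (g.normalization.presheaf.stalk (g.toNormalization o)) := ⟨hfield.exists_pair_ne⟩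
  ext y
  constructor
  · rintro ⟨s, rfl⟩
    have hV : IsAffineOpen V := hU.preimage g.fromNormalization
    letI := TopCat.Presheaf.algebra_section_stalk g.normalization.presheaf (⟨_, hpV⟩ : V)
    haveI := hV.isLocalization_stalk ⟨_, hpV⟩
    obtain ⟨⟨b, c⟩, hbc⟩ := IsLocalization.surj (hV.primeIdealOf ⟨_, hpV⟩).asIdeal.primeCompl s
    have hcu : IsUnit (h (g.normalization.presheaf.germ V _ hpV c.1)) :=
      (IsLocalization.map_units (g.normalization.presheaf.stalk (g.toNormalization o)) c).map h
    have hs : h s = h (g.normalization.presheaf.germ V _ hpV b) * (h (g.normalization.presheaf.germ V _ hpV c.1))⁻¹ := by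
      rw [eq_mul_inv_iff_mul_eq₀ hcu.ne_zero, ← map_mul]
      exact congrArg h hbc
    show _root_.IsIntegral X.functionField (h s)
    rw [hs]
    exact (hint b).mul (hint c.1).inv
  · intro hy
    have hy' : _root_.IsIntegral X.functionField y := hy
    obtain ⟨⟨a, ha⟩, hm⟩ := hy'.exists_multiple_integral_of_isLocalization (nonZeroDivisors Γ(X, U)) y
    obtain ⟨w, hw⟩ := (ConcreteCategory.bijective_of_isIso σ').2 ((a : Γ(X, U)) • y)
    have hwint : _root_.IsIntegral Γ(X, U) w := by
      refine (isIntegral_algHom_iff σ (ConcreteCategory.bijective_of_isIso σ').1).mp ?_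
      rw [show σ w = a • y from hw]
      exact hm
    have h1 : h (g.normalization.presheaf.germ V _ hpV (N.symm ⟨w, hwint⟩)) = algebraMap Γ(X, U) K a * y := by
      rw [hθ, N.apply_symm_apply, ← Algebra.smul_def]
      exact hw
    have h2 : h (g.normalization.presheaf.germ V _ hpV (N.symm (algebraMap Γ(X, U) _ a))) = algebraMap Γ(X, U) K a := by
      rw [hθ, N.apply_symm_apply]
      exact σ.commutes a
    have hane : algebraMap Γ(X, U) K a ≠ 0 := fun he => nonZeroDivisors.ne_zero ha
      (X.germToFunctionField_injective U (φ.injective (by rw [map_zero, map_zero]; exact he)))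
    obtain ⟨t, ht⟩ := hfield.mul_inv_cancel (a := g.normalization.presheaf.germ V _ hpV (N.symm (algebraMap Γ(X, U) _ a)))
      (fun he => hane (by rw [← h2, he, map_zero]))
    refine ⟨g.normalization.presheaf.germ V _ hpV (N.symm ⟨w, hwint⟩) * t, ?_⟩
    have h3 := congrArg h ht
    rw [map_mul, map_one, h2] at h3
    show h _ = y
    rw [map_mul, h1, mul_comm (algebraMap Γ(X, U) K a) y, mul_assoc, h3, mul_one]

end Groth.Agent.NagataLib
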